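import Groth.Agent.Lib.UnipFix19.Solvable
import Groth.Agent.Lib.UnipFix19.Product
import Groth.Agent.Lib.GenSubgrp14.Connected
import Groth.Agent.Lib.Flag27.Conj
import Groth.Agent.Lib.Flag27.Preimage

/-!
# Families all of whose conjugates lie in a solvable subgroup
-/

set_option autoImplicit false
set_option linter.all false
set_option backward.isDefEq.respectTransparency false

universe u

open CategoryTheory CategoryTheory.Limits MonoidalCategory CartesianMonoidalCategory MonObj GrpObj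
open AlgebraicGeometry VecGrp TopologicalSpace
open GrothLib.Repr GrothLib.Induce27 GrothLib.Flag27

noncomputable section

set_option synthInstance.maxHeartbeats 200000
set_option maxHeartbeats 2000000

namespace GrothLib.SelfCent19

variable {k : Type u} [Field k] [IsAlgClosed k] {G B A : Over (Spec (CommRingCat.of k))} [GrpObj G] [GrpObj B]

theorem exists_normal_torus (hG : Red.IsReductiveOver k G) [IsAffine G.left] [Smooth G.hom] [ConnectedSpace G.left]
    (i : B ⟶ G) [IsMonHom i] [IsClosedImmersion i.left] (hBs : Red.IsSolvableGrp B)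
    [IsAffine A.left] [Smooth A.hom] [ConnectedSpace A.left] (a : A ⟶ G)
    (x₀ : 𝟙_ (Over (Spec (CommRingCat.of k))) ⟶ A) (hx₀ : x₀ ≫ a = 1)
    (hconj : ∀ (g : 𝟙_ (Over (Spec (CommRingCat.of k))) ⟶ G) (u : 𝟙_ (Over (Spec (CommRingCat.of k))) ⟶ A),
      ∃ b, b ≫ i = g * (u ≫ a) * g⁻¹) :
    ∃ (R : Over (Spec (CommRingCat.of k))) (_ : GrpObj R) (r : R ⟶ G) (l : A ⟶ R),
      IsMonHom r ∧ IsClosedImmersion r.left ∧ Smooth R.hom ∧ ConnectedSpace R.left ∧
      AlgGrp.IsNormalHom r ∧ Red.IsTorus R ∧ l ≫ r = a := by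
  classical
  let κ : G ⊗ A ⟶ G := fst G A * (snd G A ≫ a) * (fst G A)⁻¹
  have hκ : ∀ {Y : Over (Spec (CommRingCat.of k))} (g : Y ⟶ G) (u : Y ⟶ A), lift g u ≫ κ = g * (u ≫ a) * g⁻¹ :=
    fun g u => by simp only [κ, MonObj.comp_mul, GrpObj.comp_inv, lift_fst, lift_snd_assoc]
  haveI : GeometricallyReduced G.hom := GrothLib.Rigidity.geometricallyReduced_of_smooth' G.hom
  haveI : GeometricallyReduced A.hom := GrothLib.Rigidity.geometricallyReduced_of_smooth' A.hom
  haveI := GenSubgrp14.geometricallyReduced_tensor G A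
  haveI : ConnectedSpace (G ⊗ A).left :=
    GrothLib.Neutral.connectedSpace_pullback G.hom A.hom η[G].left (Over.w η[G])
  have hGen : ∀ (W : Over (Spec (CommRingCat.of k))) (b : W ⟶ G), GenSubgrp14.Single κ W b →
      GeometricallyReduced W.hom ∧ ConnectedSpace W.left ∧
        ∃ y : 𝟙_ (Over (Spec (CommRingCat.of k))) ⟶ W, y ≫ b = η[G] := by
    intro W b hb
    cases hb
    exact ⟨inferInstance, inferInstance, lift 1 x₀, by
      rw [hκ, hx₀, _root_.one_mul, _root_.one_mul, _root_.inv_one, GenSubgrp14.eta_eq_one]⟩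
  obtain ⟨E⟩ := GenSubgrp14.nonempty_envelope (GenSubgrp14.Single κ) fun W b hb => (hGen W b hb).1
  let _ := E.grp
  haveI := E.isMonHom
  haveI := E.isClosedImmersion
  haveI := E.geometricallyReduced
  haveI : LocallyOfFiniteType E.Z.hom := by rw [← Over.w E.z]; infer_instance
  haveI : Smooth E.Z.hom := by
    letI : GrpObj (Over.mk E.Z.hom) := (E.grp : GrpObj E.Z)
    exact smooth_of_grpObj E.Z.hom
  haveI : IsAffine E.Z.left := isAffine_of_isAffineHom E.z.left
  haveI : Mono E.z := Over.mono_of_mono_left E.z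
  have huniv : ∀ {Γ : Over (Spec (CommRingCat.of k))} [GrpObj Γ] (i' : Γ ⟶ G) [IsMonHom i']
      [IsClosedImmersion i'.left], (∀ W b, GenSubgrp14.Single κ W b → ∃ c, c ≫ i' = b) →
      ∃ m : E.Z ⟶ Γ, m ≫ i' = E.z := fun {Γ} _ i' _ _ hh =>
    GenSubgrp14.exists_over_lift E.z i' (E.range_eq.le.trans
      (closure_minimal (fun g ⟨W, w, hw, hg⟩ => by
        obtain ⟨w', rfl⟩ := hw.lift_of_gen i' hh
        exact GenSubgrp14.range_subset_of_comp w' i' hg) i'.left.isClosedEmbedding.isClosed_range))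
  haveI : ConnectedSpace E.Z.left := GenSubgrp14.connectedSpace_of_min (GenSubgrp14.Single κ) hGen E.Z E.z
    (fun W b hb => E.lift_word W b (.of hb))
    (fun Γ' _ i' _ hc hh => huniv i' hh)
  obtain ⟨lκ, hlκ⟩ := E.lift_word _ _ (.of .mk)
  haveI : IsReduced (G ⊗ A).left := GenSubgrp14.isReduced_left _
  haveI : LocallyOfFiniteType (G ⊗ A).hom := by
    show LocallyOfFiniteType (pullback.fst G.hom A.hom ≫ G.hom)
    infer_instance
  -- inside the solvable subgroup
  obtain ⟨m, hm⟩ := huniv i fun W b hb => by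
    cases hb
    refine exists_lift_of_pts κ i fun v => ?_
    obtain ⟨b, hb⟩ := hconj (v ≫ fst G A) (v ≫ snd G A)
    refine ⟨b, hb.trans ?_⟩
    rw [← hκ, GrothLib.GrpSchField.lift_fst_snd_comp]
  haveI : IsMonHom (m ≫ i) := by rw [hm]; infer_instance
  haveI : Mono i := Over.mono_of_mono_left i
  haveI : IsMonHom m := GrothLib.CentMT14.isMonHom_of_comp m i
  haveI : Mono (m ≫ i) := by rw [hm]; infer_instance
  haveI : Mono m := mono_of_mono m i
  have hs : Red.IsSolvableGrp E.Z := by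
    obtain ⟨n, hn⟩ := hBs
    refine ⟨n, fun X => ?_⟩
    let f : (X ⟶ E.Z) →* (X ⟶ B) := MonoidHom.mk' (fun v => v ≫ m) fun v w => MonObj.mul_comp v w m
    refine (Subgroup.map_eq_bot_iff_of_injective _ (f := f) fun v w h => (cancel_mono m).1 h).1
      (le_bot_iff.1 ?_)
    rw [← hn X]
    exact map_derivedSeries_le_derivedSeries f n
  -- normality
  have hN : AlgGrp.IsNormalHom E.z := by
    refine GrothLib.UnipFix19.isNormalHom_of_pts E.z fun g w => ?_
    haveI : IsMonHom (AGF.conjBy g⁻¹ E.z) := isMonHom_conjBy g⁻¹ E.z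
    haveI : IsClosedImmersion (AGF.conjBy g⁻¹ E.z).left := isClosedImmersion_conjBy g⁻¹ E.z
    obtain ⟨q, hq⟩ := huniv (AGF.conjBy g⁻¹ E.z) fun W b hb => by
      cases hb
      refine ⟨lift ((toUnit (G ⊗ A) ≫ g) * fst G A) (snd G A) ≫ lκ, ?_⟩
      rw [comp_conjBy, Category.assoc, hlκ, hκ, GrpObj.comp_inv, _root_.inv_inv]
      show _ = fst G A * (snd G A ≫ a) * (fst G A)⁻¹
      group
    refine ⟨w ≫ q, ?_⟩
    have e : (w ≫ q) ≫ AGF.conjBy g⁻¹ E.z = w ≫ E.z := by rw [Category.assoc, hq]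
    rw [comp_conjBy, toUnit_unique (toUnit (𝟙_ (Over (Spec (CommRingCat.of k))))) (𝟙 _), Category.id_comp] at e
    rw [← e]
    group
  refine ⟨E.Z, inferInstance, E.z, lift 1 (𝟙 A) ≫ lκ, inferInstance, inferInstance, inferInstance, inferInstance,
    hN, GrothLib.UnipFix19.isTorus_of_solvable (GrothLib.UnipFix19.isReductiveOver_normal hG E.z hN) hs, ?_⟩
  rw [Category.assoc, hlκ, hκ, _root_.one_mul, inv_one, _root_.mul_one, Category.id_comp]

end GrothLib.SelfCent19
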