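import Groth.Agent.Lib.SelfCent19.Fix
import Groth.Agent.Lib.SelfCent19.Normal
import Groth.Agent.Lib.Flag27.Cartan

/-!
# Maximal tori of reductive groups are their own centralisers
-/

set_option autoImplicit false
set_option linter.all false
set_option backward.isDefEq.respectTransparency false

universe u

open CategoryTheory CategoryTheory.Limits MonoidalCategory CartesianMonoidalCategory MonObj GrpObj
open AlgebraicGeometry VecGrp TopologicalSpace
open GrothLib.Repr GrothLib.Induce27 GrothLib.Flag27 GrothLib.CentMT14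

noncomputable section

set_option synthInstance.maxHeartbeats 200000
set_option maxHeartbeats 2000000

namespace GrothLib.SelfCent19

variable {k : Type u} [Field k] [IsAlgClosed k]
  {G B T : Over (Spec (CommRingCat.of k))} [GrpObj G] [GrpObj B] [GrpObj T] [IsAffine G.left] [Smooth G.hom]

/-- If all conjugates fix the cone they lie in the Borel subgroup. -/
theorem LineData.exists_conj {i : B ⟶ G} (D : LineData i) {x : pt k k ⟶ G} (g : pt k k ⟶ G) (c : k)
    (h : (D.M x).mulVec (D.v g) = c • D.v g) : ∃ b, b ≫ i = g⁻¹ * x * g := by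
  refine D.det _ c fun j => ?_
  rw [D.M_v] at h
  have h2 := congrArg (D.M g⁻¹).mulVec h
  rw [Matrix.mulVec_smul, LineData.M_v, LineData.M_v, inv_mul_cancel, ← _root_.mul_assoc] at h2
  exact congrFun h2 j

variable [ConnectedSpace G.left]

/-- A line whose character has finitely many values only exists for solvable groups. -/
theorem isSolvable_of_finite {i : B ⟶ G} (hB : Red.IsBorelOver k i) [IsAffine B.left] (D : LineData i)
    (hfin : (Set.range D.χ).Finite) : IsSolvable (𝟙_ (Over (Spec (CommRingCat.of k))) ⟶ G) := by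
  obtain ⟨hi, hic, hBsm, hBc, hBs, -⟩ := id hB
  haveI := hi; haveI := hic; haveI := hBsm; haveI := hBc
  obtain ⟨X, a, o, hX, hXp⟩ := isProper_quotient_good (uc_of_borel hB)
  haveI := hXp
  obtain ⟨hXl, hfl, hsurj, hpb⟩ := hX
  haveI := hfl; haveI := hsurj; haveI := hXl
  haveI := GrothLib.Induce27.lfp_orbit (a.orbitMap o)
  obtain ⟨χf, hχf⟩ := D.χ_fn
  have hχ1 : ∀ b, D.χ b = 1 := fun b => by
    have h : (Set.range fun b : pt k k ⟶ B => valAt b χf).Finite := by simpa [hχf] using hfin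
    rw [← hχf, const_of_finite χf h b, hχf, D.χ_one]
  have hconst : ∀ (j : Fin D.n) (g : pt k k ⟶ G), valAt g (D.c j) = valAt (1 : pt k k ⟶ G) (D.c j) := by
    intro j g
    let Z : Over (Spec (CommRingCat.of k)) := pt k (MvPolynomial (Fin 1) k)
    haveI : IsAffine Z.left := inferInstanceAs (IsAffine (Spec (CommRingCat.of (MvPolynomial (Fin 1) k))))
    let ψ : G ⟶ Z := (Groth.Agent.S11191.affIso G).hom ≫ ptMap (MvPolynomial.aeval fun _ => D.c j)
    haveI := isAffine_tensor (G := G) (T := B)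
    have hψ : ∀ p : pt k k ⟶ G, p ≫ ψ = ptMap (MvPolynomial.aeval fun _ => valAt p (D.c j)) := fun p => by
      have h1 : p ≫ (Groth.Agent.S11191.affIso G).hom = ptMap (valAt p) := by
        rw [← cancel_mono (Groth.Agent.S11191.affIso G).inv, Category.assoc, Iso.hom_inv_id, Category.comp_id]
        exact eq_of_affine p
      show p ≫ (Groth.Agent.S11191.affIso G).hom ≫ _ = _
      rw [← Category.assoc, h1, ← ptMap_comp]
      congr 1
      exact MvPolynomial.algHom_ext fun l => by simp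
    clear_value ψ
    have hinv : ((G ◁ i) ≫ μ[G]) ≫ ψ = fst G B ≫ ψ := by
      refine hom_ext_valAt _ _ fun p r => ?_
      obtain ⟨x, b, rfl⟩ : ∃ x b, p = lift x b :=
        ⟨p ≫ fst _ B, p ≫ snd _ B, (GrothLib.GrpSchField.lift_fst_snd_comp p).symm⟩
      rw [show lift x b ≫ ((G ◁ i) ≫ μ[G]) ≫ ψ = (x * b ≫ i) ≫ ψ by
          rw [Category.assoc, lift_whiskerLeft_assoc, ← Category.assoc, ← Hom.mul_def],
        show lift x b ≫ fst G B ≫ ψ = x ≫ ψ by rw [lift_fst_assoc], hψ, hψ,
        show valAt (x * b ≫ i) (D.c j) = valAt x (D.c j) by rw [D.right, hχ1, _root_.one_mul]]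
    obtain ⟨d, hd⟩ := GrothLib.DiagGrp.exists_desc (a.orbitMap o) ψ fun T' v w e => by
      obtain ⟨l, hl1, hl2⟩ : ∃ l : T' ⟶ G ⊗ B, l ≫ fst G B = v ∧ l ≫ (G ◁ i) ≫ μ[G] = w :=
        ⟨hpb.lift v w e, hpb.lift_fst _ _ _, hpb.lift_snd _ _ _⟩
      rw [← hl1, ← hl2, Category.assoc, Category.assoc, hinv]
    haveI := GrothLib.Rigidity.irreducibleSpace_of_connected G
    haveI : IsReduced G.left := GrothLib.RedSmooth.isReduced_of_smooth G.hom
    haveI : IsReduced X.left := GrothLib.FlatFactor.isReduced_of_flat_surjective (a.orbitMap o).left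
    haveI : IrreducibleSpace X.left := by
      rw [irreducibleSpace_def, Set.top_eq_univ, ← (a.orbitMap o).left.surjective.range_eq, ← Set.image_univ]
      exact (IrreducibleSpace.isIrreducible_univ G.left).image _ (a.orbitMap o).left.continuous.continuousOn
    haveI : IsIntegral X.left := isIntegral_of_irreducibleSpace_of_isReduced _
    have hd0 : d = toUnit X ≫ o ≫ d :=
      Over.OverMorphism.ext (GrothLib.Rigidity.eq_comp_section_of_isAffine X.hom o.left (Over.w o) d.left)
    have hall : ∀ p : pt k k ⟶ G, p ≫ ψ = ptOne.hom ≫ o ≫ d := fun p => by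
      rw [← hd, hd0, ← Category.assoc, ← Category.assoc, ← Category.assoc,
        toUnit_unique ((p ≫ a.orbitMap o) ≫ toUnit X) ptOne.hom, Category.assoc, ← hd0]
    have h := (hψ g).symm.trans ((hall g).trans ((hall 1).symm.trans (hψ 1)))
    have h2 := congrArg (fun q => valAt q (fnPt k _ (MvPolynomial.X (0 : Fin 1)))) h
    simp only [valAt_ptMap, MvPolynomial.aeval_X] at h2
    exact h2
  have hsurj' : ∀ g : 𝟙_ (Over (Spec (CommRingCat.of k))) ⟶ G, ∃ b, b ≫ i = g := fun g => by
    obtain ⟨b, hb⟩ := D.det (ptOne.hom ≫ g) 1 fun j => by rw [_root_.one_mul, hconst j]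
    exact ⟨ptOne.inv ≫ b, by rw [Category.assoc, hb, ptOne.inv_hom_id_assoc]⟩
  haveI : Group.IsSolvable (𝟙_ (Over (Spec (CommRingCat.of k))) ⟶ B) := isSolvable_points hBs
  exact solvable_of_surjective (f := MonoidHom.mk'
    (fun v : 𝟙_ (Over (Spec (CommRingCat.of k))) ⟶ B => v ≫ i) fun v w => MonObj.mul_comp v w i) hsurj'

/-- In a reductive group a maximal torus is its own centraliser. -/
theorem centralizer_le_torus_over (hG : Red.IsReductiveOver k G) (iT : T ⟶ G) (hT : AGF.IsMaxTorus iT)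
    {C : Over (Spec (CommRingCat.of k))} [GrpObj C] (c : C ⟶ G) (hc : Red.IsCentralizerOf iT c) :
    ∃ f : C ⟶ T, f ≫ iT = c := by
  classical
  obtain ⟨hTm, hTmono, hTt, hTmax⟩ := id hT
  haveI := hTm; haveI := hTmono
  by_cases hsol : IsSolvable (𝟙_ (Over (Spec (CommRingCat.of k))) ⟶ G)
  · haveI : IsClosedImmersion (𝟙 G : G ⟶ G).left := by show IsClosedImmersion (𝟙 G.left); infer_instance
    have hGt : Red.IsTorus G := GrothLib.UnipFix19.isTorus_of_solvable hG (isSolvableGrp_of_points hsol)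
    haveI := hTmax G (𝟙 G) iT hGt (Category.comp_id iT)
    exact ⟨c ≫ inv iT, by rw [Category.assoc, IsIso.inv_hom_id, Category.comp_id]⟩
  obtain ⟨B, _, i, t₀, hB, ht₀⟩ := exists_borel_containing iT hTt
  obtain ⟨hi, hic, hBsm, hBc, hBs, -⟩ := id hB
  haveI := hi; haveI := hic; haveI := hBsm; haveI := hBc
  haveI : IsAffine B.left := isAffine_of_isAffineHom i.left
  obtain ⟨D⟩ := exists_lineData i
  have hinf : (Set.range D.χ).Infinite := fun h => hsol (isSolvable_of_finite hB D h)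
  obtain ⟨τ⟩ := exists_torusData iT hTt
  obtain ⟨wd⟩ := exists_weightData D τ iT
  obtain ⟨hcc, hCa, hCs, hCconn⟩ := centralizer_facts iT hTt hc
  haveI := hcc; haveI := hCa; haveI := hCs; haveI := hCconn
  obtain ⟨hcm, hcmono, hciff⟩ := id hc
  haveI := hcm; haveI := hcmono
  obtain ⟨tC, htC⟩ := (hciff _ iT).2 fun X x h => by
    rw [← MonObj.mul_comp, ← MonObj.mul_comp, GrothLib.RankCell14.comm_torus hTt (x) h]
  haveI : IsMonHom (tC ≫ c) := by rw [htC]; infer_instance
  haveI : IsMonHom tC := GrothLib.CentMT14.isMonHom_of_comp tC c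
  haveI : Mono (tC ≫ c) := by rw [htC]; infer_instance
  haveI : Mono tC := mono_of_mono tC c
  have hTC : AGF.IsMaxTorus tC := by
    refine ⟨inferInstance, inferInstance, hTt, fun T' _ j _ _ f hT' hf => ?_⟩
    exact hTmax T' (j ≫ c) f hT' (by rw [reassoc_of% hf, htC])
  have hcentral : ∀ (X : Over (Spec (CommRingCat.of k))) (g : X ⟶ C) (w : X ⟶ T),
      g * (w ≫ tC) = (w ≫ tC) * g := fun X g w => by
    rw [← cancel_mono c, MonObj.mul_comp, MonObj.mul_comp, Category.assoc, htC]
    have := (hciff _ (g ≫ c)).1 ⟨g, rfl⟩ X (𝟙 X) w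
    rwa [Category.id_comp] at this
  have hsolv := isSolvable_centralizer hT hc
  haveI : IsClosedImmersion (𝟙 C : C ⟶ C).left := by
    show IsClosedImmersion (𝟙 C.left); infer_instance
  have hBC : Red.IsBorelOver k (𝟙 C) := by
    refine ⟨inferInstance, inferInstance, hCs, hCconn, isSolvableGrp_of_points hsolv, ?_⟩
    intro B' _ i' _ f hic' hsm' hc' hs' hf
    haveI := hic'
    haveI : Mono i' := Over.mono_of_mono_left i'
    exact ⟨i', hf, by rw [← cancel_mono i', Category.assoc, hf, Category.comp_id, Category.id_comp]⟩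
  obtain ⟨D', _, U, _, p, s, w, r, hp, hs, hu, hsp, hDt, hDa, hDs, -, huc, hup, -, hru, hUu, hUs, hUc⟩ :=
    hasSplit_of_solvable hsolv
  haveI := hp; haveI := hs; haveI := hu; haveI := huc; haveI := hUs; haveI := hUc
  haveI : IsAffine U.left := isAffine_of_isAffineHom w.left
  haveI : Mono w := Over.mono_of_mono_left w
  obtain ⟨hiso, h, hh⟩ := exists_iso_section_in_borel hBC p s w r hsp hup hru hUu hDt tC hTC tC (Category.comp_id _)
  haveI := hiso
  have htps : tC ≫ p ≫ s = tC := by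
    have e := hcentral T (toUnit T ≫ h) (𝟙 T)
    rw [Category.id_comp] at e
    rw [← hh, AGF.conjBy, e, mul_inv_cancel_right]
  have hUsol : IsSolvable (pt k k ⟶ U) := (isSolvable_pt_iff U).2 hUu.isSolvable_points
  have hUn : Red.HasNoSubtorus k U := hUu.hasNoSubtorus
  let a : U ⟶ G := w ≫ c
  have hcomm : ∀ (x : pt k k ⟶ U) (t : pt k k ⟶ T), (x ≫ a) * (t ≫ iT) = (t ≫ iT) * (x ≫ a) := fun x t => by
    have := (hciff _ (x ≫ a)).1 ⟨x ≫ w, by rw [Category.assoc]⟩ _ (𝟙 _) t
    rwa [Category.id_comp] at this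
  -- the unipotent part fixes the eigenvectors
  have heig : ∀ (x : pt k k ⟶ U) (m : Fin τ.r → ℤ), ∀ v ∈ D.cone, v ≠ 0 → (wd.E m).mulVec v = v →
      (D.M (x ≫ a)).mulVec v = v := by
    intro x m v hv hv0 hvm
    obtain ⟨n, e, s', hs', hn, rfl⟩ := wd.exists_norm_of_eigen hB hinf hT t₀ ht₀ hv hv0 hvm
    let n₁ : 𝟙_ (Over (Spec (CommRingCat.of k))) ⟶ G := ptOne.inv ≫ n
    haveI : IsMonHom (AGF.conjBy n₁ i) := isMonHom_conjBy n₁ i
    haveI : IsClosedImmersion (AGF.conjBy n₁ i).left := isClosedImmersion_conjBy n₁ i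
    have hB' : Red.IsBorelOver k (AGF.conjBy n₁ i) := isBorelOver_conjBy hB hBs (Iso.refl B) n₁ (by simp)
    obtain ⟨f, hf⟩ := exists_factor_centralizer hT hc hB' (e.inv ≫ t₀) (by
      rw [comp_conjBy', Category.assoc, ht₀, ← comp_conjBy', ← hn, Iso.inv_hom_id_assoc])
    haveI : IsMonHom (f ≫ AGF.conjBy n₁ i) := by rw [hf]; infer_instance
    haveI : Mono (AGF.conjBy n₁ i) := Over.mono_of_mono_left _
    haveI : IsMonHom f := GrothLib.CentMT14.isMonHom_of_comp f (AGF.conjBy n₁ i)
    let b : U ⟶ B := w ≫ f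
    have hb : ∀ y : pt k k ⟶ U, (y ≫ a) * n = n * ((y ≫ b) ≫ i) := fun y => by
      have e1 : y ≫ a = (y ≫ b) ≫ AGF.conjBy n₁ i := by simp only [a, b, Category.assoc, hf]
      rw [e1, comp_conj_pt, inv_mul_cancel_right]
    obtain ⟨χf, hχf⟩ := D.χ_fn
    have hmul : ∀ b b' : pt k k ⟶ B, D.χ (b * b') = D.χ b * D.χ b' := fun b b' => by
      refine smul_left_injective k (D.v_ne 1) ?_
      have h1 := D.v_right 1 (b * b')
      rw [MonObj.mul_comp, ← _root_.mul_assoc, D.v_right, D.v_right, smul_smul] at h1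
      show D.χ (b * b') • D.v 1 = (D.χ b * D.χ b') • D.v 1
      rw [mul_comm]
      exact h1.symm
    have hone : D.χ (x ≫ b) = 1 := by
      rw [← hχf, valAt_comp]
      refine GrothLib.UnipFix19.char_eq_one hUsol hUn _ ?_ (fun g g' => ?_) x
      · rw [← valAt_comp, MonObj.one_comp, hχf, D.χ_one]
      · rw [← valAt_comp, ← valAt_comp, ← valAt_comp, MonObj.mul_comp, hχf, hχf, hχf, hmul]
    rw [Matrix.mulVec_smul, D.M_v, hb, D.v_right, hone, one_smul]
  have hfix := fix_cone wd hB hinf hT t₀ ht₀ a 1 (MonObj.one_comp a) hcomm heig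
  obtain ⟨R, _, ρ, l, hρ, hρc, -, -, -, hRt, hl⟩ := exists_normal_torus hG i hBs a 1 (MonObj.one_comp a) fun g y => by
    obtain ⟨b, hb⟩ := D.exists_conj (x := (ptOne.hom ≫ y) ≫ a) (ptOne.hom ≫ g)⁻¹ 1 (by
      rw [one_smul]; exact hfix _ _ (D.v_mem _))
    refine ⟨ptOne.inv ≫ b, ?_⟩
    rw [← cancel_epi ptOne.hom, Category.assoc, ptOne.hom_inv_id_assoc, hb, _root_.inv_inv]
    simp only [MonObj.comp_mul, GrpObj.comp_inv, Category.assoc]
  haveI := hρ; haveI := hρc
  haveI : Mono ρ := Over.mono_of_mono_left ρ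
  haveI : IsMonHom (l ≫ ρ) := by rw [hl]; infer_instance
  haveI : IsMonHom l := GrothLib.CentMT14.isMonHom_of_comp l ρ
  obtain ⟨τR⟩ := exists_torusData ρ hRt
  have hw1 : w = 1 := by
    haveI : IsReduced U.left := GrothLib.RedSmooth.isReduced_of_smooth U.hom
    haveI : IsAffineHom C.hom := isAffineHom_of_isAffine _
    refine hom_ext_pt fun y => ?_
    rw [← cancel_mono c, Category.assoc, show w ≫ c = l ≫ ρ from hl.symm, ← Category.assoc,
      τR.hom_trivial hUsol hUn l y, MonObj.one_comp, MonObj.comp_one, MonObj.one_comp]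
  rw [hw1, MonObj.comp_one, eq_comm, mul_inv_eq_one] at hru
  refine ⟨p ≫ inv (tC ≫ p), ?_⟩
  calc (p ≫ inv (tC ≫ p)) ≫ iT = (p ≫ inv (tC ≫ p)) ≫ (tC ≫ p ≫ s) ≫ c := by rw [htps, htC]
    _ = p ≫ (inv (tC ≫ p) ≫ (tC ≫ p)) ≫ s ≫ c := by simp only [Category.assoc]
    _ = p ≫ s ≫ c := by rw [IsIso.inv_hom_id, Category.id_comp]
    _ = c := by rw [← Category.assoc, ← hru, Category.id_comp]

/-- Over an algebraically closed field a reductive group is reductive over the field itself. -/
theorem isReductiveOver_of_isReductive (hG : Red.IsReductive G) : Red.IsReductiveOver k G := by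
  obtain ⟨ha, hs, hc⟩ := GrothLib.UnipFix19.props_of_isReductive hG
  haveI := ha; haveI := hs; haveI := hc
  let s₀ : ↥(Spec (CommRingCat.of k)) := IsLocalRing.closedPoint k
  haveI := GrothLib.Flag27.isIso_geomPt (k := k) s₀
  obtain ⟨-, -, -, hRU⟩ := hG.2.2 s₀
  refine ⟨ha, hs, hc, fun N _ n _ hnc hNs hNc hNn hno => ?_⟩
  haveI := hnc; haveI := hNs; haveI := hNc
  haveI : IsClosedImmersion ((Over.pullback (Red.geomPt s₀)).map n).left :=
    MorphismProperty.of_isPullback (GrothLib.Flag27.isPullback_map _ n) ‹IsClosedImmersion n.left›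
  haveI : IsAffine N.left := isAffine_of_isAffineHom n.left
  haveI h' : IsIso (Red.bc (Red.geomPt s₀) N).hom := hRU (Red.bc (Red.geomPt s₀) N)
    ((Over.pullback (Red.geomPt s₀)).map n) inferInstance (GrothLib.Flag27.smooth_bc _ N)
    (GrothLib.Flag27.connectedSpace_bc _ N) (GrothLib.UnipFix19.isNormalHom_map (Red.geomPt s₀) hNn)
    (GrothLib.Flag27.hasNoSubtorus_bc (Red.geomPt s₀) hno)
  haveI : IsIso (pullback.snd N.hom (Red.geomPt s₀)) := h'
  show IsIso N.hom
  have hsq : pullback.fst N.hom (Red.geomPt s₀) ≫ N.hom = pullback.snd N.hom (Red.geomPt s₀) ≫ Red.geomPt s₀ :=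
    pullback.condition
  haveI : IsIso (pullback.fst N.hom (Red.geomPt s₀) ≫ N.hom) := by rw [hsq]; infer_instance
  exact IsIso.of_isIso_comp_left (pullback.fst N.hom (Red.geomPt s₀)) N.hom

/-- In a reductive group a maximal torus is its own centraliser. -/
theorem centralizer_le_torus (hG : Red.IsReductive G) (iT : T ⟶ G) (hT : AGF.IsMaxTorus iT)
    {C : Over (Spec (CommRingCat.of k))} [GrpObj C] (c : C ⟶ G) (hc : Red.IsCentralizerOf iT c) :
    ∃ f : C ⟶ T, f ≫ iT = c :=
  centralizer_le_torus_over (isReductiveOver_of_isReductive hG) iT hT c hc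


end GrothLib.SelfCent19
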