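import Groth.Agent.Lib.Induce27.Main
import Groth.Agent.Lib.Induce27.Transfer
import Groth.Agent.Lib.Induce27.Solv
import Groth.Agent.Lib.Induce27.OrbitClosure
import Groth.Agent.Lib.Flag27.BorelUnion
import Mathlib.RingTheory.Nullstellensatz

/-!
# The cone over a flag variety
-/

set_option autoImplicit false
set_option linter.all false
set_option backward.isDefEq.respectTransparency false

universe u

open CategoryTheory CategoryTheory.Limits MonoidalCategory CartesianMonoidalCategory MonObj GrpObj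
open AlgebraicGeometry VecGrp TopologicalSpace
open GrothLib.Repr GrothLib.Induce27 GrothLib.Flag27 Groth.Agent.S11191

noncomputable section

set_option synthInstance.maxHeartbeats 200000
set_option maxHeartbeats 2000000

namespace GrothLib.SelfCent19

variable {k : Type u} [Field k] [IsAlgClosed k]
  {G B : Over (Spec (CommRingCat.of k))} [GrpObj G] [GrpObj B] [IsAffine G.left] [Smooth G.hom]

/-- A line in a representation with stabiliser the subgroup. -/
structure LineData (i : B ⟶ G) where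
  n : ℕ
  c : Fin n → Fn G
  χ : (pt k k ⟶ B) → k
  A : Matrix (Fin n) (Fin n) (Fn G)
  isRep : IsRep A
  act : ∀ g x : pt k k ⟶ G, (evM A g).mulVec (fun j => valAt x (c j)) = fun j => valAt (g * x) (c j)
  right : ∀ (g : pt k k ⟶ G) (b : pt k k ⟶ B) (j : Fin n), valAt (g * (b ≫ i)) (c j) = χ b * valAt g (c j)
  ne : ∀ g : pt k k ⟶ G, ∃ j, valAt g (c j) ≠ 0
  χ_fn : ∃ f : Fn B, ∀ b, valAt b f = χ b
  χ_one : χ 1 = 1
  det : ∀ (g : pt k k ⟶ G) (s : k), (∀ j, valAt g (c j) = s * valAt (1 : pt k k ⟶ G) (c j)) → ∃ b, b ≫ i = g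

theorem hom_ext_valAt {X Y : Over (Spec (CommRingCat.of k))} [IsAffine X.left] [Smooth X.hom] [IsAffine Y.left]
    (f g : X ⟶ Y) (h : ∀ (p : pt k k ⟶ X) (r : Fn Y), valAt (p ≫ f) r = valAt (p ≫ g) r) : f = g := by
  rw [← cancel_epi (affIso X).inv]
  refine pt_ext (AlgHom.ext fun r => ?_)
  rw [valAt_comp, valAt_comp]
  congr 1
  exact ext_valAt fun p => by rw [← valAt_comp, ← valAt_comp]; exact h p r

section Line

variable [IsAffine B.left] [Smooth B.hom]

theorem exists_lineData (i : B ⟶ G) [IsMonHom i] [IsClosedImmersion i.left] : Nonempty (LineData i) := by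
  classical
  obtain ⟨w, hw0, hwm, hne, hdet⟩ := exists_key i
  let χ : (pt k k ⟶ B) → k := fun b => valAt b w
  haveI := isNoetherianRing_fn G
  let K : Set (Fn G) := {D | D ∈ semi i χ ∧ valAt (1 : pt k k ⟶ G) D = 0}
  obtain ⟨s, hsK, hspan⟩ := (Submodule.fg_span_iff_fg_span_finset_subset K).1
    (IsNoetherian.noetherian (Submodule.span (Fn G) K))
  obtain ⟨D₀, hD₀, hD₀1⟩ := hne 1
  obtain ⟨W, hWf, -, hWr, -, hWm⟩ := exists_stable_fn (G := G) (H := G) (i := 𝟙 G) ((insert D₀ s).image (invFn (G := G)))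
  haveI := hWf
  let L := W.map (invFn (G := G)).toLinearMap
  let N : Submodule k (Fn G) := L ⊓ semi i χ
  have hinv : ∀ f : Fn G, invFn (invFn f) = f := fun f => ext_valAt fun x => by
    rw [valAt_invFn, valAt_invFn, _root_.inv_inv]
  have hmem : ∀ f ∈ insert D₀ s, f ∈ semi i χ → f ∈ N := fun f hf hf' =>
    ⟨⟨invFn f, hWm _ (Finset.mem_image_of_mem _ hf), hinv f⟩, hf'⟩
  have hlt : ∀ g, ∀ f ∈ N, lt g f ∈ N := by
    rintro g f ⟨⟨f', hf', rfl⟩, hs⟩
    refine ⟨⟨rt g⁻¹ f', hWr g⁻¹ f' hf', ext_valAt fun x => ?_⟩, fun x b => ?_⟩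
    · show valAt x (invFn (rt g⁻¹ f')) = valAt x (lt g (invFn f'))
      rw [valAt_invFn, valAt_rt, valAt_lt, valAt_invFn, _root_.mul_inv_rev]
    · rw [valAt_lt, valAt_lt, ← _root_.mul_assoc]
      exact hs _ b
  haveI : Module.Finite k N :=
    Module.Finite.of_injective (Submodule.inclusion (inf_le_left : N ≤ L)) (Submodule.inclusion_injective _)
  let bN := Module.finBasis k N
  let c : Fin (Module.finrank k N) → Fn G := fun j => (bN j : Fn G)
  have hc : LinearIndependent k c := bN.linearIndependent.map' N.subtype (Submodule.ker_subtype _)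
  have hrepr : ∀ (f : Fn G) (hf : f ∈ N), f = ∑ j, bN.repr ⟨f, hf⟩ j • c j := fun f hf => by
    have h2 := congrArg N.subtype (bN.sum_repr ⟨f, hf⟩)
    rw [map_sum] at h2
    refine h2.symm.trans (Finset.sum_congr rfl fun j _ => ?_)
    rw [map_smul]
    rfl
  obtain ⟨q, hq, -⟩ := exists_rows_of_subset _ (span_eval_top hc) ∅ (by simp)
  let V₁ : Matrix (Fin (Module.finrank k N)) (Fin (Module.finrank k N)) k :=
    Matrix.of fun j a => valAt (q a) (c j)
  have hV : IsUnit V₁.det := by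
    rw [show V₁ = (Matrix.of fun a b => valAt (q a) (c b)).transpose from rfl, Matrix.det_transpose]
    exact isUnit_iff_ne_zero.2 hq
  let A : Matrix (Fin (Module.finrank k N)) (Fin (Module.finrank k N)) (Fn G) :=
    (Matrix.of fun j a => rt (q a) (c j)) * V₁⁻¹.map (algebraMap k (Fn G))
  have hA : ∀ g, evM A g = Matrix.of fun j l => bN.repr ⟨lt g (c j), hlt g _ (bN j).2⟩ l := by
    intro g
    let Lg : Matrix (Fin (Module.finrank k N)) (Fin (Module.finrank k N)) k :=
      Matrix.of fun j l => bN.repr ⟨lt g (c j), hlt g _ (bN j).2⟩ l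
    have e : (Matrix.of fun j a => valAt (g * q a) (c j)) = Lg * V₁ := by
      ext j a
      rw [Matrix.of_apply, Matrix.mul_apply, ← valAt_lt, hrepr _ (hlt g _ (bN j).2), map_sum]
      exact Finset.sum_congr rfl fun l _ => by rw [map_smul, smul_eq_mul]; rfl
    show ((Matrix.of fun j a => rt (q a) (c j)) * V₁⁻¹.map (algebraMap k (Fn G))).map (valAt g) = _
    rw [Matrix.map_mul, Matrix.map_map]
    have e2 : (⇑(valAt g) ∘ ⇑(algebraMap k (Fn G))) = id := funext fun x => (valAt g).commutes x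
    rw [e2, Matrix.map_id, show (Matrix.of fun j a => rt (q a) (c j)).map (valAt g) =
      Matrix.of fun j a => valAt (g * q a) (c j) from Matrix.ext fun j a => valAt_rt _ _ _, e,
      Matrix.mul_assoc, Matrix.mul_nonsing_inv _ hV, Matrix.mul_one]
  have hact : ∀ g x : pt k k ⟶ G, (evM A g).mulVec (fun j => valAt x (c j)) = fun j => valAt (g * x) (c j) := by
    intro g x
    funext j
    rw [hA]
    show ∑ l, bN.repr ⟨lt g (c j), hlt g _ (bN j).2⟩ l * valAt x (c l) = valAt (g * x) (c j)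
    conv_rhs => rw [← valAt_lt, hrepr _ (hlt g _ (bN j).2), map_sum]
    exact Finset.sum_congr rfl fun l _ => by rw [map_smul, smul_eq_mul]
  have hall : ∀ g g' : Matrix (Fin (Module.finrank k N)) (Fin (Module.finrank k N)) k,
      (∀ x : pt k k ⟶ G, g.mulVec (fun j => valAt x (c j)) = g'.mulVec (fun j => valAt x (c j))) → g = g' := by
    intro g g' h
    have e : g * V₁ = g' * V₁ := by
      ext j a
      exact congrFun (h (q a)) j
    calc g = g * V₁ * V₁⁻¹ := by rw [Matrix.mul_assoc, Matrix.mul_nonsing_inv _ hV, Matrix.mul_one]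
      _ = g' * V₁ * V₁⁻¹ := by rw [e]
      _ = g' := by rw [Matrix.mul_assoc, Matrix.mul_nonsing_inv _ hV, Matrix.mul_one]
  refine ⟨⟨_, c, χ, A, ⟨hall _ _ fun x => ?_, fun g h => hall _ _ fun x => ?_⟩, hact,
    fun g b j => (bN j).2.2 g b, fun g => ?_, ⟨w, fun b => rfl⟩, ?_, fun g t ht => ?_⟩⟩
  · rw [hact, _root_.one_mul, Matrix.one_mulVec]
  · rw [hact, ← Matrix.mulVec_mulVec, hact, hact, _root_.mul_assoc]
  · by_contra h
    push_neg at h
    refine hD₀1 ?_
    have h0 : ∀ f ∈ N, valAt g f = 0 := fun f hf => by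
      rw [hrepr f hf, map_sum]
      exact Finset.sum_eq_zero fun j _ => by rw [map_smul, h j, smul_zero]
    have := h0 _ (hlt g⁻¹ D₀ (hmem D₀ (Finset.mem_insert_self _ _) hD₀))
    rwa [valAt_lt, inv_mul_cancel] at this
  · have h := hwm 1 1
    rw [_root_.one_mul] at h
    exact (mul_eq_left₀ (hw0 1)).1 h.symm
  · refine hdet g fun D hD h1 => ?_
    have hK : D ∈ Submodule.span (Fn G) (s : Set (Fn G)) := hspan ▸ Submodule.subset_span ⟨hD, h1⟩
    refine (Submodule.span_le.2 ?_ : Submodule.span (Fn G) (s : Set (Fn G)) ≤ RingHom.ker (valAt g)) hK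
    intro f hf
    obtain ⟨hf1, hf2⟩ := hsK hf
    rw [hrepr f (hmem f (Finset.mem_insert_of_mem hf) hf1), map_sum] at hf2
    rw [SetLike.mem_coe, RingHom.mem_ker, hrepr f (hmem f (Finset.mem_insert_of_mem hf) hf1), map_sum,
      ← mul_zero t, ← hf2, Finset.mul_sum]
    exact Finset.sum_congr rfl fun j _ => by
      rw [map_smul, map_smul, smul_eq_mul, smul_eq_mul, ht j, _root_.mul_left_comm]

end Line

namespace LineData

variable {i : B ⟶ G} (D : LineData i)

/-- The vector of a point. -/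
def v (g : pt k k ⟶ G) : Fin D.n → k := fun j => valAt g (D.c j)

/-- The matrix of a point. -/
abbrev M (g : pt k k ⟶ G) : Matrix (Fin D.n) (Fin D.n) k := evM D.A g

theorem M_v (g x : pt k k ⟶ G) : (D.M g).mulVec (D.v x) = D.v (g * x) := D.act g x

theorem v_ne (g : pt k k ⟶ G) : D.v g ≠ 0 := fun h => by
  obtain ⟨j, hj⟩ := D.ne g
  exact hj (congrFun h j)

theorem v_right (g : pt k k ⟶ G) (b : pt k k ⟶ B) : D.v (g * (b ≫ i)) = D.χ b • D.v g :=
  funext fun j => D.right g b j

theorem M_one : D.M 1 = 1 := D.isRep.one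

theorem M_mul (g h : pt k k ⟶ G) : D.M (g * h) = D.M g * D.M h := D.isRep.mul g h

/-- The cone spanned by the orbit. -/
def cone : Set (Fin D.n → k) :=
  {w | ∀ P : MvPolynomial (Fin D.n) k,
    (∀ (g : pt k k ⟶ G) (s : k), MvPolynomial.eval (s • D.v g) P = 0) → MvPolynomial.eval w P = 0}

theorem smul_v_mem (g : pt k k ⟶ G) (s : k) : s • D.v g ∈ D.cone := fun P h => h g s

theorem eval_smul_eq (P : MvPolynomial (Fin D.n) k) (w : Fin D.n → k) (s : k) :
    (MvPolynomial.aeval (fun j => Polynomial.C (w j) * Polynomial.X) P).eval s =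
      MvPolynomial.eval (s • w) P := by
  induction P using MvPolynomial.induction_on with
  | C a => simp
  | add p q hp hq => simp [hp, hq]
  | mul_X p j hp =>
    rw [map_mul, Polynomial.eval_mul, hp, MvPolynomial.aeval_X, map_mul, MvPolynomial.eval_X, Polynomial.eval_mul,
      Polynomial.eval_C, Polynomial.eval_X, Pi.smul_apply, smul_eq_mul, mul_comm (w j) s]

variable [IsAffine B.left] [Smooth B.hom] [ConnectedSpace B.left] [ConnectedSpace G.left]

/-- Every point of the cone is a multiple of an orbit point. -/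
theorem exists_of_mem_cone (hB : Red.IsBorelOver k i) (hinf : (Set.range D.χ).Infinite) {w : Fin D.n → k}
    (hw : w ∈ D.cone) : ∃ (g : pt k k ⟶ G) (s : k), w = s • D.v g := by
  classical
  obtain ⟨hi, hic, -, -, -, -⟩ := id hB
  haveI := hi; haveI := hic
  obtain ⟨X, a, o, hX, hXp⟩ := isProper_quotient_good (uc_of_borel hB)
  haveI := hXp
  let R := MvPolynomial (Fin D.n) k
  let Y : Over (Spec (CommRingCat.of k)) := pt k R
  haveI : IsAffine Y.left := inferInstanceAs (IsAffine (Spec (CommRingCat.of R)))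
  haveI : Smooth Y.hom := by
    haveI : Algebra.Smooth k R := ⟨inferInstance, inferInstance⟩
    exact (HasRingHomProperty.Spec_iff (P := @Smooth)).2 (RingHom.smooth_algebraMap.2 inferInstance)
  haveI := isAffine_tensor (G := G) (T := Y)
  haveI : IsAffine (G ⊗ G).left := isAffine_tensor (G := G) (T := G)
  haveI : IsAffine ((G ⊗ G) ⊗ Y).left := by
    show IsAffine (pullback (G ⊗ G).hom Y.hom)
    infer_instance
  haveI : IsAffine (𝟙_ (Over (Spec (CommRingCat.of k))) ⊗ Y).left := by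
    show IsAffine (pullback (𝟙 (Spec (CommRingCat.of k))) Y.hom)
    infer_instance
  haveI : Smooth (𝟙_ (Over (Spec (CommRingCat.of k)))).hom := inferInstanceAs (Smooth (𝟙 (Spec (CommRingCat.of k))))
  let crd : (pt k k ⟶ Y) → Fin D.n → k := fun p l => valAt p (fnPt k R (MvPolynomial.X l))
  have hext : ∀ p q : pt k k ⟶ Y, crd p = crd q → p = q := by
    intro p q h
    obtain ⟨φ, rfl⟩ := exists_ptMap p
    obtain ⟨ψ, rfl⟩ := exists_ptMap q
    refine congrArg ptMap (MvPolynomial.algHom_ext fun l => ?_)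
    have := congrFun h l
    exact (valAt_ptMap φ _).symm.trans (this.trans (valAt_ptMap ψ _))
  let φ : R →ₐ[k] Fn (G ⊗ Y) := MvPolynomial.aeval fun j =>
    ∑ l, fnMap (fst G Y) (D.A j l) * fnMap (snd G Y) (fnPt k R (MvPolynomial.X l))
  let m : G ⊗ Y ⟶ Y := (affIso (G ⊗ Y)).hom ≫ ptMap φ
  have hm : ∀ (g : pt k k ⟶ G) (y : pt k k ⟶ Y), crd (lift g y ≫ m) = (D.M g).mulVec (crd y) := by
    intro g y
    funext j
    show valAt (lift g y ≫ m) (fnPt k R (MvPolynomial.X j)) = _
    have e : lift g y ≫ m = ptMap ((valAt (lift g y)).comp φ) := by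
      rw [ptMap_comp]
      show lift g y ≫ (affIso (G ⊗ Y)).hom ≫ ptMap φ = _
      rw [← Category.assoc]
      congr 1
      rw [← cancel_mono (affIso (G ⊗ Y)).inv, Category.assoc, Iso.hom_inv_id, Category.comp_id]
      exact eq_of_affine _
    rw [e, valAt_ptMap, AlgHom.comp_apply, MvPolynomial.aeval_X, map_sum]
    refine Finset.sum_congr rfl fun l _ => ?_
    rw [map_mul, ← valAt_comp, ← valAt_comp, lift_fst, lift_snd]
    rfl
  have hext' : ∀ {Z : Over (Spec (CommRingCat.of k))} [IsAffine Z.left] [Smooth Z.hom] (f₁ f₂ : Z ⟶ Y),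
      (∀ p : pt k k ⟶ Z, crd (p ≫ f₁) = crd (p ≫ f₂)) → f₁ = f₂ := fun f₁ f₂ h =>
    hom_ext_valAt f₁ f₂ fun p r => by rw [hext _ _ (h p)]
  let b : AlgGrp.Action G Y :=
    { act := m
      one_act := hext' _ _ fun p => by
        have ep : p ≫ (η[G] ▷ Y) = lift (1 : pt k k ⟶ G) (p ≫ snd _ Y) := by
          apply CartesianMonoidalCategory.hom_ext
          · rw [lift_fst, Category.assoc, whiskerRight_fst, ← Category.assoc, Hom.one_def,
              toUnit_unique (p ≫ fst _ Y) (toUnit _)]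
          · rw [lift_snd, Category.assoc, whiskerRight_snd]
        rw [← Category.assoc, ep, hm, M_one, Matrix.one_mulVec, leftUnitor_hom]
      mul_act := hext' _ _ fun p => by
        obtain ⟨g, y, rfl⟩ : ∃ g y, p = lift g y :=
          ⟨p ≫ fst _ Y, p ≫ snd _ Y, (GrothLib.GrpSchField.lift_fst_snd_comp p).symm⟩
        obtain ⟨g₁, g₂, rfl⟩ : ∃ g₁ g₂, g = lift g₁ g₂ :=
          ⟨g ≫ fst _ G, g ≫ snd _ G, (GrothLib.GrpSchField.lift_fst_snd_comp g).symm⟩
        rw [lift_whiskerRight_assoc, ← Hom.mul_def, hm, lift_lift_associator_hom_assoc,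
          lift_whiskerLeft_assoc, hm, hm, Matrix.mulVec_mulVec, M_mul] }
  let o' : 𝟙_ (Over (Spec (CommRingCat.of k))) ⟶ Y :=
    ptOne.inv ≫ ptMap (MvPolynomial.aeval (D.v 1))
  have hcrd : ∀ u : Fin D.n → k, crd (ptMap (MvPolynomial.aeval u)) = u := fun u => by
    funext l
    show valAt (ptMap (MvPolynomial.aeval u)) (fnPt k R (MvPolynomial.X l)) = u l
    rw [valAt_ptMap, MvPolynomial.aeval_X]
  have horb : ∀ g : pt k k ⟶ G, g ≫ b.orbitMap o' = ptMap (MvPolynomial.aeval (D.v g)) := fun g => by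
    refine hext _ _ ?_
    show crd (g ≫ lift (𝟙 G) (toUnit G ≫ o') ≫ m) = _
    rw [comp_lift_assoc, Category.comp_id]
    have e : g ≫ toUnit G ≫ o' = ptMap (MvPolynomial.aeval (D.v 1)) := by
      rw [← Category.assoc, toUnit_unique (g ≫ toUnit G) ptOne.hom]
      exact ptOne.hom_inv_id_assoc _
    rw [e, hm, hcrd, hcrd, M_v, _root_.mul_one]
  -- points and polynomials
  have hcl : ∀ (u : Fin D.n → k) (P : R),
      P ∈ (cl (ptOne.inv ≫ ptMap (MvPolynomial.aeval u) : 𝟙_ (Over (Spec (CommRingCat.of k))) ⟶ Y) :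
        PrimeSpectrum R).asIdeal ↔ MvPolynomial.eval u P = 0 := by
    intro u P
    rw [cl_comp]
    change MvPolynomial.aeval u P ∈ (cl (ptOne (k := k)).inv : PrimeSpectrum k).asIdeal ↔ _
    rw [MvPolynomial.aeval_eq_eval]
    constructor
    · intro h
      by_contra h0
      exact (PrimeSpectrum.isPrime _).ne_top (Ideal.eq_top_of_isUnit_mem _ h (isUnit_iff_ne_zero.2 h0))
    · intro h
      rw [show (MvPolynomial.eval u) P = 0 from h]
      exact Submodule.zero_mem _
  have hpt : ∀ (A : Over (Spec (CommRingCat.of k))) (z : 𝟙_ (Over (Spec (CommRingCat.of k))) ⟶ A) (f : A ⟶ Y),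
      ∃ u, z ≫ f = ptOne.inv ≫ ptMap (MvPolynomial.aeval u) := fun A z f => by
    refine ⟨crd (ptOne.hom ≫ z ≫ f), ?_⟩
    rw [← cancel_epi ptOne.hom, ptOne.hom_inv_id_assoc]
    exact hext _ _ (hcrd _).symm
  -- the closure of the orbit contains the cone
  have hclo : cl (ptOne.inv ≫ ptMap (MvPolynomial.aeval w) : 𝟙_ (Over (Spec (CommRingCat.of k))) ⟶ Y) ∈
      closure (Set.range (b.orbitMap o').left) := by
    rw [← PrimeSpectrum.zeroLocus_vanishingIdeal_eq_closure, PrimeSpectrum.mem_zeroLocus]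
    intro P hP
    rw [SetLike.mem_coe, PrimeSpectrum.mem_vanishingIdeal] at hP
    rw [SetLike.mem_coe, hcl]
    have hP0 : ∀ g : pt k k ⟶ G, MvPolynomial.eval (D.v g) P = 0 := fun g => by
      rw [← hcl, ← horb]
      refine hP _ ⟨cl (ptOne.inv ≫ g), ?_⟩
      rw [← cl_comp, Category.assoc]
    refine hw P fun g s => ?_
    have hQ : MvPolynomial.aeval (fun j => Polynomial.C (D.v g j) * Polynomial.X) P = 0 := by
      refine Polynomial.eq_zero_of_infinite_isRoot _ (hinf.mono ?_)
      rintro _ ⟨x, rfl⟩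
      show Polynomial.eval (D.χ x) _ = 0
      rw [eval_smul_eq, ← D.v_right]
      exact hP0 _
    rw [← eval_smul_eq, hQ, Polynomial.eval_zero]
  haveI : LocallyOfFiniteType (G ⊗ Y).hom := inferInstance
  rw [closure_orbit_eq a o hX b o'] at hclo
  obtain ⟨z, hz, hzw⟩ := exists_cl_lift b.act (E := (snd G Y).left ⁻¹' closure (Set.range (i ≫ b.orbitMap o').left))
    (isClosed_closure.preimage (snd G Y).left.continuous).isLocallyClosed hclo
  -- the closure of the orbit of the subgroup lies on the line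
  obtain ⟨y, hy⟩ := hpt _ z (snd G Y)
  obtain ⟨j₀, hj₀⟩ := D.ne 1
  have hline : y = (y j₀ / D.v 1 j₀) • D.v 1 := by
    funext l
    let P : R := MvPolynomial.X l * MvPolynomial.C (D.v 1 j₀) - MvPolynomial.X j₀ * MvPolynomial.C (D.v 1 l)
    have hP : MvPolynomial.eval y P = 0 := by
      rw [← hcl, ← hy]
      have hsub : closure (Set.range (i ≫ b.orbitMap o').left) ⊆ PrimeSpectrum.zeroLocus {P} := by
        refine closure_minimal ?_ (PrimeSpectrum.isClosed_zeroLocus _)
        rintro _ ⟨x, rfl⟩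
        refine subset_of_cl (X := B) isClosed_univ
          ((PrimeSpectrum.isClosed_zeroLocus {P}).preimage (i ≫ b.orbitMap o').left.continuous) (fun t _ => ?_)
          (Set.mem_univ x)
        rw [Set.mem_preimage, ← cl_comp]
        show (cl (t ≫ i ≫ b.orbitMap o') : PrimeSpectrum R) ∈ PrimeSpectrum.zeroLocus {P}
        rw [PrimeSpectrum.mem_zeroLocus, Set.singleton_subset_iff, SetLike.mem_coe]
        obtain ⟨u', hu'⟩ := hpt _ t (i ≫ b.orbitMap o')
        rw [hu', hcl]
        have e : crd ((ptOne.hom ≫ t ≫ i) ≫ b.orbitMap o') = u' := by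
          have e2 : ptOne.hom ≫ t ≫ i ≫ b.orbitMap o' = ptMap (MvPolynomial.aeval u') := by
            rw [hu', ptOne.hom_inv_id_assoc]
          simp only [Category.assoc, e2, hcrd]
        rw [horb, hcrd] at e
        have e3 : D.v (ptOne.hom ≫ t ≫ i) = D.χ (ptOne.hom ≫ t) • D.v 1 := by
          rw [← D.v_right, _root_.one_mul, Category.assoc]
        rw [e3] at e
        subst e
        simp [P]
        ring
      have h2 := hsub (show (cl (z ≫ snd G Y)) ∈ _ by rw [cl_comp]; exact hz)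
      exact Set.singleton_subset_iff.1 ((PrimeSpectrum.mem_zeroLocus _ _).1 h2)
    simp only [P, map_sub, map_mul, MvPolynomial.eval_X, MvPolynomial.eval_C, sub_eq_zero] at hP
    rw [Pi.smul_apply, smul_eq_mul, div_mul_eq_mul_div, eq_div_iff (show D.v 1 j₀ ≠ 0 from hj₀)]
    exact hP
  refine ⟨ptOne.hom ≫ z ≫ fst G Y, y j₀ / D.v 1 j₀, ?_⟩
  have e : ptOne.hom ≫ z ≫ b.act = ptMap (MvPolynomial.aeval w) := by rw [hzw, ptOne.hom_inv_id_assoc]
  rw [← hcrd w, ← e]
  have e2 : ptOne.hom ≫ z = lift (ptOne.hom ≫ z ≫ fst G Y) (ptMap (MvPolynomial.aeval y)) := by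
    rw [← ptOne.hom_inv_id_assoc (ptMap (MvPolynomial.aeval y)), ← hy, ← comp_lift,
      GrothLib.GrpSchField.lift_fst_snd_comp]
  rw [← Category.assoc, e2, hm, hcrd]
  conv_lhs => rw [hline]
  rw [Matrix.mulVec_smul, M_v, _root_.mul_one]

end LineData

end GrothLib.SelfCent19
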