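import Groth.Agent.Lib.SelfCent19.Conseq

/-!
# Homomorphisms to a base change of the additive group
-/

set_option autoImplicit false
set_option linter.all false
set_option backward.isDefEq.respectTransparency false

universe u

open CategoryTheory CategoryTheory.Limits MonoidalCategory CartesianMonoidalCategory MonObj GrpObj
open AlgebraicGeometry VecGrp TopologicalSpace
open GrothLib.Repr GrothLib.Induce27 GrothLib.Flag27 GrothLib.CentMT14

noncomputable section

set_option synthInstance.maxHeartbeats 200000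
set_option maxHeartbeats 2000000

namespace GrothLib.SelfCent19

/-- A reductive group has no nontrivial homomorphism to a base change of the additive group. -/
theorem hom_bcGa_eq_one {k₀ k : Type u} [Field k₀] [Field k] [IsAlgClosed k]
    {G : Over (Spec (CommRingCat.of k))} [GrpObj G] [IsAffine G.left] [Smooth G.hom] [ConnectedSpace G.left]
    (hG : Red.IsReductiveOver k G) (q : Spec (CommRingCat.of k) ⟶ Spec (CommRingCat.of k₀))
    (φ : G ⟶ Red.bc q (Red.Ga (Spec (CommRingCat.of k₀)))) [IsMonHom φ] : φ = 1 := by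
  obtain ⟨T, _, iT, hT⟩ := exists_maxTorus (G := G)
  obtain ⟨hTm, hTmono, hTt, -⟩ := id hT
  haveI := hTm; haveI := hTmono
  obtain ⟨τ⟩ := exists_torusData iT hTt
  obtain ⟨-, hTa, hTs, -⟩ := torus_facts hTt iT
  haveI := hTa; haveI := hTs
  haveI : Smooth (Red.Ga (Spec (CommRingCat.of k₀))).hom := GrothLib.NoTorus14.smooth_Ga _
  haveI : Smooth (Red.bc q (Red.Ga (Spec (CommRingCat.of k₀)))).hom := GrothLib.Flag27.smooth_bc q _
  haveI : IsSeparated (Red.bc q (Red.Ga (Spec (CommRingCat.of k₀)))).hom := GrpSchField.isSeparated _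
  haveI : IsCommMonObj (Red.Ga (Spec (CommRingCat.of k₀))) := (isCommMonObj_iff_isMulCommutative _).2 fun X => ⟨⟨fun x y =>
    GrothLib.RedPts.gaFn_injective (by rw [GrothLib.RedPts.gaFn_mul, GrothLib.RedPts.gaFn_mul, add_comm])⟩⟩
  refine eq_one_of_torus hG iT hT φ ?_
  let E := fun X => GrothLib.DiagGrp.bcPointMulEquiv q (Red.Ga (Spec (CommRingCat.of k₀))) X
  let co : ∀ {X : Over (Spec (CommRingCat.of k))}, (X ⟶ Red.bc q (Red.Ga (Spec (CommRingCat.of k₀)))) → Fn X :=
    fun {X} x => Red.gaFn (X := (Over.map q).obj X) ((E X).symm x)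
  have hco : ∀ (t : pt k k ⟶ T), valAt t (co (iT ≫ φ)) =
      (Scheme.ΓSpecIso (CommRingCat.of k)).hom (co (t ≫ iT ≫ φ)) := fun t => by
    rw [valAt_eq_hom]
    congr 1
  have hadd : ∀ s t : pt k k ⟶ T, valAt (s * t) (co (iT ≫ φ)) = valAt s (co (iT ≫ φ)) + valAt t (co (iT ≫ φ)) :=
    fun s t => by
    rw [hco, hco, hco, MonObj.mul_comp]
    show (Scheme.ΓSpecIso (CommRingCat.of k)).hom (Red.gaFn (X := (Over.map q).obj (pt k k)) ((E _).symm ((s ≫ iT ≫ φ) * (t ≫ iT ≫ φ)))) = _
    rw [map_mul, GrothLib.RedPts.gaFn_mul]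
    exact map_add (Scheme.ΓSpecIso (CommRingCat.of k)).hom.hom _ _
  have h0 := τ.additive_eq_zero _ hadd
  apply (E T).symm.injective
  rw [map_one]
  refine GrothLib.RedPts.gaFn_injective ?_
  rw [GrothLib.RedPts.gaFn_one]
  exact (ext_valAt (X := T) fun t => by rw [h0, map_zero] : (co (iT ≫ φ)) = 0)

end GrothLib.SelfCent19
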