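import Groth.Agent.Lib.SelfCent19.Weights
import Mathlib.RingTheory.Valuation.LocalSubring
import Mathlib.RingTheory.Nullstellensatz

/-!
# Connected families commuting with the torus fix the cone
-/

set_option autoImplicit false
set_option linter.all false
set_option backward.isDefEq.respectTransparency false

universe u

open CategoryTheory CategoryTheory.Limits MonoidalCategory CartesianMonoidalCategory MonObj GrpObj
open AlgebraicGeometry VecGrp TopologicalSpace
open GrothLib.Repr GrothLib.Induce27 GrothLib.Flag27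

noncomputable section

set_option synthInstance.maxHeartbeats 200000
set_option maxHeartbeats 2000000

namespace GrothLib.SelfCent19

variable {k : Type u} [Field k] [IsAlgClosed k]

/-- An element of a field outside the constants has a pole at some valuation. -/
theorem exists_valuationSubring_notMem {K : Type u} [Field K] [Algebra k K] {x : K}
    (hx : x ∉ Set.range (algebraMap k K)) :
    ∃ O : ValuationSubring K, (∀ c : k, algebraMap k K c ∈ O) ∧ x ∉ O := by
  by_contra h
  push_neg at h
  have hmem : x ∈ (⨅ V : {V : ValuationSubring K // Set.range (algebraMap k K) ⊆ V.toSubring}, V.1.toSubring) :=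
    Subring.mem_iInf.2 fun V => h V.1 fun c => V.2 ⟨c, rfl⟩
  rw [iInf_valuationSubring_superset] at hmem
  have hle : Subring.closure (Set.range (algebraMap k K)) ≤ (algebraMap k K).range :=
    Subring.closure_le.2 fun y hy => hy
  let ρ : k ≃+* (algebraMap k K).range := RingEquiv.ofBijective (algebraMap k K).rangeRestrict
    ⟨fun a b hab => (algebraMap k K).injective (congrArg Subtype.val hab), (algebraMap k K).rangeRestrict_surjective⟩
  have hint : IsIntegral k x := by
    refine IsIntegral.map_of_comp_eq (ρ.symm.toRingHom.comp (Subring.inclusion hle)) (RingHom.id K) ?_ hmem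
    refine RingHom.ext fun z => ?_
    show algebraMap k K (ρ.symm (Subring.inclusion hle z)) = z.1
    exact congrArg Subtype.val (ρ.apply_symm_apply (Subring.inclusion hle z))
  haveI : Algebra.IsIntegral k (Algebra.adjoin k {x}) :=
    Algebra.IsIntegral.adjoin (by rintro y rfl; exact hint)
  obtain ⟨c, hc⟩ := (IsAlgClosed.algebraMap_bijective_of_isIntegral (k := k)
    (K := Algebra.adjoin k {x})).2 ⟨x, Algebra.subset_adjoin rfl⟩
  exact hx ⟨c, congrArg Subtype.val hc⟩

variable {G B T : Over (Spec (CommRingCat.of k))} [GrpObj G] [GrpObj B] [GrpObj T] [IsAffine G.left] [Smooth G.hom]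
  {i : B ⟶ G} {D : LineData i} {τ : TorusData T} {iT : T ⟶ G}

theorem WeightData.comm (wd : WeightData D τ iT) [IsMonHom iT] {g : pt k k ⟶ G}
    (hg : ∀ t : pt k k ⟶ T, g * (t ≫ iT) = (t ≫ iT) * g) (a : Fin τ.r → ℤ) :
    wd.E a * D.M g = D.M g * wd.E a := by
  by_cases ha : a ∈ wd.W
  · exact sub_eq_zero.1 (τ.lin wd.W (fun a => wd.E a * D.M g - D.M g * wd.E a) (fun t => by
      rw [Finset.sum_congr rfl (fun b _ => show τ.ch b t • (wd.E b * D.M g - D.M g * wd.E b) =
        (τ.ch b t • wd.E b) * D.M g - D.M g * (τ.ch b t • wd.E b) by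
          rw [Matrix.mul_smul, Matrix.smul_mul, smul_sub]),
        Finset.sum_sub_distrib, ← Finset.sum_mul, ← Finset.mul_sum, ← wd.eq_sum, ← D.M_mul, ← D.M_mul, hg,
        sub_self]) a ha)
  · rw [show wd.E a = 0 from not_not.1 fun h => ha (wd.mem a h), Matrix.zero_mul, Matrix.mul_zero]

variable [IsAffine B.left] [Smooth B.hom] [ConnectedSpace B.left] [ConnectedSpace G.left]

/-- A connected family commuting with the torus and fixing the eigenvectors fixes the cone. -/
theorem fix_cone (wd : WeightData D τ iT) [IsMonHom iT] (hB : Red.IsBorelOver k i)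
    (hinf : (Set.range D.χ).Infinite) (hT : AGF.IsMaxTorus iT) (t₀ : T ⟶ B) (ht₀ : t₀ ≫ i = iT)
    {U : Over (Spec (CommRingCat.of k))} [GrpObj U] [IsAffine U.left] [Smooth U.hom] [ConnectedSpace U.left]
    (a : U ⟶ G) (u₀ : pt k k ⟶ U) (hu₀ : u₀ ≫ a = 1)
    (hcomm : ∀ (u : pt k k ⟶ U) (t : pt k k ⟶ T), (u ≫ a) * (t ≫ iT) = (t ≫ iT) * (u ≫ a))
    (heig : ∀ (u : pt k k ⟶ U) (m : Fin τ.r → ℤ), ∀ w ∈ D.cone, w ≠ 0 → (wd.E m).mulVec w = w →
      (D.M (u ≫ a)).mulVec w = w) :
    ∀ (u : pt k k ⟶ U), ∀ w ∈ D.cone, (D.M (u ≫ a)).mulVec w = w := by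
  classical
  intro u w hw
  haveI := GrothLib.Rigidity.irreducibleSpace_of_connected U
  haveI : IsReduced U.left := GrothLib.RedSmooth.isReduced_of_smooth U.hom
  haveI : IsIntegral U.left := isIntegral_of_irreducibleSpace_of_isReduced _
  haveI : IsDomain (Fn U) := inferInstanceAs (IsDomain Γ(U.left, ⊤))
  -- extreme components do not move
  have hF : ∀ (m : Fin τ.r → ℤ), wd.Eig m → ∀ u : pt k k ⟶ U,
      (wd.E m).mulVec ((D.M (u ≫ a)).mulVec w) = (wd.E m).mulVec w := by
    intro m hm u
    rw [Matrix.mulVec_mulVec, wd.comm (hcomm u), ← Matrix.mulVec_mulVec]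
    by_cases h0 : (wd.E m).mulVec w = 0
    · rw [h0, Matrix.mulVec_zero]
    · exact heig u m _ (hm.mulVec_mem wd hB hinf hT t₀ ht₀ hw) h0 (wd.mulVec_idem m w)
  let f : Fin D.n → Fn U := fun j => ∑ l, fnMap a (D.A j l) * algebraMap k (Fn U) (w l)
  have hf : ∀ (u : pt k k ⟶ U) j, valAt u (f j) = (D.M (u ≫ a)).mulVec w j := fun u j => by
    rw [map_sum]
    refine Finset.sum_congr rfl fun l _ => ?_
    rw [map_mul, AlgHom.commutes, ← valAt_comp]
    rfl
  suffices hconst : ∀ j, ∃ c, f j = algebraMap k (Fn U) c by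
    funext j
    obtain ⟨c, hc⟩ := hconst j
    have h1 := hf u j
    have h2 := hf u₀ j
    rw [hc, AlgHom.commutes] at h1 h2
    rw [← h1, h2, hu₀, D.M_one, Matrix.one_mulVec]
  intro j
  by_contra hne
  push_neg at hne
  let K := FractionRing (Fn U)
  let φ : Fn U →ₐ[k] K := IsScalarTower.toAlgHom k (Fn U) K
  have hφ : Function.Injective φ := IsFractionRing.injective (Fn U) K
  obtain ⟨O, hO, hfO⟩ := exists_valuationSubring_notMem (k := k) (x := φ (f j)) (by
    rintro ⟨c, hc⟩
    exact hne c (hφ (hc.symm.trans (φ.commutes c).symm)))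
  obtain ⟨j₀, -, hmax⟩ := (Finset.univ : Finset (Fin D.n)).exists_max_image
    (fun l => O.valuation (φ (f l))) ⟨j, Finset.mem_univ _⟩
  have hbig : 1 < O.valuation (φ (f j₀)) :=
    lt_of_lt_of_le (not_le.1 fun h => hfO ((O.valuation_le_one_iff _).1 h)) (hmax j (Finset.mem_univ _))
  have hne0 : φ (f j₀) ≠ 0 := fun h => by
    rw [h, map_zero] at hbig
    exact not_lt_zero' hbig
  let z : Fin D.n → K := fun l => φ (f l) / φ (f j₀)
  have hz : ∀ P : MvPolynomial (Fin D.n) k, MvPolynomial.aeval z P ∈ O := by
    intro P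
    induction P using MvPolynomial.induction_on with
    | C c => rw [MvPolynomial.aeval_C]; exact hO c
    | add p q hp hq => rw [map_add]; exact O.add_mem _ _ hp hq
    | mul_X p l hp =>
      rw [map_mul, MvPolynomial.aeval_X]
      refine O.mul_mem _ _ hp ((O.valuation_le_one_iff _).1 ?_)
      rw [map_div₀]
      exact div_le_one_of_le₀ (hmax l (Finset.mem_univ _)) zero_le'
  let J₁ : Ideal (MvPolynomial (Fin D.n) k) :=
    { carrier := {P | O.valuation (MvPolynomial.aeval z P) < 1}
      zero_mem' := by simp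
      add_mem' := fun {p q} hp hq => by
        show O.valuation _ < 1
        rw [map_add]
        exact O.valuation.map_add_lt hp hq
      smul_mem' := fun p q hq => by
        show O.valuation _ < 1
        rw [smul_eq_mul, map_mul, map_mul]
        exact lt_of_le_of_lt (mul_le_of_le_one_left zero_le' ((O.valuation_le_one_iff _).2 (hz p))) hq }
  -- equations of the cone vanish
  have hcone : ∀ P : MvPolynomial (Fin D.n) k, (∀ w' ∈ D.cone, MvPolynomial.eval w' P = 0) →
      MvPolynomial.aeval z P = 0 := by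
    intro P hP
    let Q : Polynomial K := MvPolynomial.aeval (fun l => Polynomial.C (φ (f l)) * Polynomial.X) P
    have hQev : ∀ y : K, Q.eval y = MvPolynomial.aeval (fun l => φ (f l) * y) P := fun y => by
      have : ((Polynomial.aeval y).restrictScalars k).comp
          (MvPolynomial.aeval (R := k) fun l => Polynomial.C (φ (f l)) * Polynomial.X) =
          MvPolynomial.aeval (fun l => φ (f l) * y) := by
        refine MvPolynomial.algHom_ext fun l => ?_
        simp
      have h := DFunLike.congr_fun this P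
      rw [AlgHom.comp_apply, AlgHom.restrictScalars_apply, Polynomial.coe_aeval_eq_eval] at h
      exact h
    have hQ : Q = 0 := by
      refine Polynomial.eq_zero_of_infinite_isRoot _
        ((Set.infinite_range_of_injective (algebraMap k K).injective).mono ?_)
      rintro _ ⟨s, rfl⟩
      show Q.eval (algebraMap k K s) = 0
      rw [hQev]
      have e : (fun l => φ (f l) * algebraMap k K s) = fun l => φ (f l * algebraMap k (Fn U) s) :=
        funext fun l => by rw [map_mul, AlgHom.commutes]
      rw [e, show MvPolynomial.aeval (fun l => φ (f l * algebraMap k (Fn U) s)) P =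
          φ (MvPolynomial.aeval (fun l => f l * algebraMap k (Fn U) s) P) from
          (MvPolynomial.comp_aeval_apply _ φ P).symm]
      refine (congrArg φ ?_).trans (map_zero φ)
      refine eq_zero_of_valAt fun v => ?_
      rw [MvPolynomial.comp_aeval_apply _ (valAt v) P, MvPolynomial.aeval_eq_eval]
      refine hP _ ?_
      have e2 : (fun l => valAt v (f l * algebraMap k (Fn U) s)) = s • (D.M (v ≫ a)).mulVec w := funext fun l => by
        rw [map_mul, AlgHom.commutes, hf, Pi.smul_apply, smul_eq_mul, mul_comm]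
        rfl
      rw [e2]
      exact D.cone_smul s (D.cone_M _ hw)
    have := hQev (φ (f j₀))⁻¹
    rw [hQ, Polynomial.eval_zero] at this
    simpa only [z, div_eq_mul_inv] using this.symm
  let I : Ideal (MvPolynomial (Fin D.n) k) :=
    { carrier := {P | ∀ w' ∈ D.cone, MvPolynomial.eval w' P = 0}
      zero_mem' := fun w' _ => map_zero _
      add_mem' := fun {p q} hp hq w' h => by rw [map_add, hp w' h, hq w' h, add_zero]
      smul_mem' := fun p q hq w' h => by rw [smul_eq_mul, map_mul, hq w' h, mul_zero] }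
  let lin : (Fin τ.r → ℤ) → Fin D.n → MvPolynomial (Fin D.n) k := fun m x =>
    ∑ l, MvPolynomial.C (wd.E m x l) * MvPolynomial.X l
  have hlin : ∀ m x (w' : Fin D.n → k), MvPolynomial.eval w' (lin m x) = (wd.E m).mulVec w' x := fun m x w' => by
    simp [lin, Matrix.mulVec, dotProduct]
  let J := I ⊔ Ideal.span {P | ∃ m x, wd.Eig m ∧ P = lin m x}
  have hJ : J ≤ J₁ := by
    refine sup_le (fun P hP => ?_) (Ideal.span_le.2 ?_)
    · show O.valuation _ < 1
      rw [hcone P hP, map_zero]
      exact zero_lt_one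
    · rintro _ ⟨m, x, hm, rfl⟩
      show O.valuation _ < 1
      have e0 : ∑ l, algebraMap k (Fn U) (wd.E m x l) * f l = algebraMap k (Fn U) ((wd.E m).mulVec w x) :=
        ext_valAt fun v => by
          rw [map_sum, AlgHom.commutes, ← hF m hm v]
          show _ = (wd.E m).mulVec ((D.M (v ≫ a)).mulVec w) x
          exact Finset.sum_congr rfl fun l _ => by rw [map_mul, AlgHom.commutes, hf]; rfl
      have e1 : MvPolynomial.aeval z (lin m x) = algebraMap k K ((wd.E m).mulVec w x) / φ (f j₀) := by
        rw [← φ.commutes, ← e0]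
        simp only [lin, map_sum, map_mul, MvPolynomial.aeval_C, MvPolynomial.aeval_X, z, AlgHom.commutes]
        rw [Finset.sum_div]
        exact Finset.sum_congr rfl fun l _ => (mul_div_assoc _ _ _).symm
      rw [e1, map_div₀, div_lt_one₀ (lt_trans zero_lt_one hbig)]
      exact lt_of_le_of_lt ((O.valuation_le_one_iff _).2 (hO _)) hbig
  have hzero : ∀ w' ∈ MvPolynomial.zeroLocus k J, w' = 0 := by
    intro w' hw'
    by_contra h0
    have hw'c : w' ∈ D.cone := fun P hP => by
      have := (MvPolynomial.mem_zeroLocus_iff.1 hw') P (Ideal.mem_sup_left (fun u hu => hu P hP))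
      rwa [MvPolynomial.aeval_eq_eval] at this
    obtain ⟨l, hl⟩ := exists_sep wd.W
    obtain ⟨m, hmW, hm0, hmC, -⟩ := wd.exists_top hw'c h0 l hl
    refine hm0 (funext fun x => ?_)
    have := (MvPolynomial.mem_zeroLocus_iff.1 hw') (lin m x)
      (Ideal.mem_sup_right (Ideal.subset_span ⟨m, x, ⟨_, hmC, hm0, wd.mulVec_idem m w'⟩, rfl⟩))
    rw [MvPolynomial.aeval_eq_eval] at this
    rw [← hlin]
    exact this
  have hX : (MvPolynomial.X j₀ : MvPolynomial (Fin D.n) k) ∈ J.radical := by
    rw [← MvPolynomial.vanishingIdeal_zeroLocus_eq_radical (K := k) J, MvPolynomial.mem_vanishingIdeal_iff]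
    intro w' hw'
    rw [hzero w' hw', MvPolynomial.aeval_X, Pi.zero_apply]
  obtain ⟨N, hN⟩ := hX
  have h1 : O.valuation (MvPolynomial.aeval z ((MvPolynomial.X j₀) ^ N)) < 1 := hJ hN
  rw [map_pow, MvPolynomial.aeval_X, show z j₀ = 1 from div_self hne0, one_pow, map_one] at h1
  exact lt_irrefl _ h1

end GrothLib.SelfCent19
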