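import Groth.Agent.Lib.UnipFix19.DerivedTorus
import Groth.Agent.Lib.UnipFix19.Main
import Groth.Agent.Lib.Flag27.TorsionPts

/-!
# Characters of a torus through its rational points
-/

set_option autoImplicit false
set_option linter.all false
set_option backward.isDefEq.respectTransparency false

universe u

open CategoryTheory CategoryTheory.Limits MonoidalCategory CartesianMonoidalCategory MonObj GrpObj
open AlgebraicGeometry VecGrp
open GrothLib.Repr GrothLib.Induce27 GrothLib.Flag27 GrothLib.MultHopf14 GrothLib.CentMT14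
open WithConv Groth.Agent.S11191

noncomputable section

set_option synthInstance.maxHeartbeats 200000
set_option maxHeartbeats 2000000

namespace GrothLib.SelfCent19

variable {k : Type u} [Field k] [IsAlgClosed k]

/-- The characters of a torus on rational points. -/
structure TorusData (T : Over (Spec (CommRingCat.of k))) [GrpObj T] where
  r : ℕ
  ch : (Fin r → ℤ) → ((pt k k ⟶ T) →* k)
  ch_zero : ∀ t, ch 0 t = 1
  ch_add : ∀ a b t, ch (a + b) t = ch a t * ch b t
  ch_injective : Function.Injective ch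
  fn : (Fin r → ℤ) → Fn T
  valAt_fn : ∀ a t, valAt t (fn a) = ch a t
  expand : ∀ f : Fn T, ∃ c : (Fin r → ℤ) →₀ k, ∀ t, valAt t f = c.sum fun a x => x * ch a t
  exists_cochar : ∀ (l : (Fin r → ℤ) →+ ℤ) (s : kˣ), ∃ t, ∀ a, ch a t = ((s ^ l a : kˣ) : k)
  eq_one : ∀ t, (∀ a, ch a t = 1) → t = 1

theorem exists_torusData {G T : Over (Spec (CommRingCat.of k))} [GrpObj G] [GrpObj T] [IsAffine G.left]
    [Smooth G.hom] (iT : T ⟶ G) [IsMonHom iT] [Mono iT] (hT : Red.IsTorus T) : Nonempty (TorusData T) := by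
  classical
  obtain ⟨-, hTa, hTs, hTc⟩ := torus_facts hT iT
  haveI := hTa; haveI := hTs; haveI := hTc
  haveI := GrothLib.Rigidity.irreducibleSpace_of_connected T
  haveI : IsReduced T.left := GrothLib.RedSmooth.isReduced_of_smooth T.hom
  haveI : IsIntegral T.left := isIntegral_of_irreducibleSpace_of_isReduced _
  obtain ⟨A, _, _, ⟨e⟩⟩ := exists_hopf T (isAffineHom_of_isAffine _)
  haveI := finiteType_of_grpIso e
  let i : specGrp (R := k) A ≅ T := (Grp.forget _).mapIso e
  haveI : IsDomain A := by
    haveI : IsIso i.inv.left := inferInstanceAs (IsIso ((Over.forget _).map i.inv))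
    haveI : IsIntegral (Spec (CommRingCat.of A)) := .of_isIso i.inv.left
    exact (affine_isIntegral_iff (CommRingCat.of A)).1 inferInstance
  have hA : HopfRep.IsDiagonalizable k A := by
    obtain ⟨L, _, _, hL⟩ := exists_split_functions e hT
    haveI : Coalgebra.IsCocomm k A := NoPrim.isCocomm_of_isDiagonalizable L hL
    exact NoPrim.isDiagonalizable_of_isAlgClosed (TorusPrim24.noPrimElt_of_isTorus e hT)
  let i₀ : pt k A ⟶ T := i.hom
  let i₁ : T ⟶ pt k A := i.inv
  have hi : i₀ ≫ i₁ = 𝟙 _ := i.hom_inv_id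
  let toFn : A → Fn T := fun a => fnMap i₁ (fnPt k A a)
  let toA : Fn T → A := fun f => valAt i₀ f
  have hval : ∀ (φ : WithConv (A →ₐ[k] k)) (f : Fn T), valAt (ptsEquiv e φ) f = φ.ofConv (toA f) := fun φ f =>
    valAt_ptMap_comp φ.ofConv i₀ f
  have hto : ∀ a, toA (toFn a) = a := fun a => by
    show valAt i₀ (fnMap i₁ (fnPt k A a)) = a
    rw [← valAt_comp, hi, ← ptMap_id, valAt_ptMap]
    rfl
  haveI := CharFG28.fg_groupLike k A
  let M := GroupLike k A
  haveI : IsMulTorsionFree M := by
    refine ⟨fun m hm g g' hgg => ?_⟩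
    have h1 : (g / g') ^ m = 1 := by
      rw [div_pow]; exact div_eq_one.2 hgg
    have hint : IsIntegral k ((g / g' : M) : A) := IsIntegral.of_pow (Nat.pos_of_ne_zero hm) (by
      rw [← GroupLike.val_pow, h1, GroupLike.val_one]; exact isIntegral_one)
    haveI : Algebra.IsIntegral k (Algebra.adjoin k {((g / g' : M) : A)}) :=
      Algebra.IsIntegral.adjoin (by rintro y rfl; exact hint)
    obtain ⟨c, hc⟩ := (IsAlgClosed.algebraMap_bijective_of_isIntegral (k := k)
      (K := Algebra.adjoin k {((g / g' : M) : A)})).2 ⟨_, Algebra.subset_adjoin rfl⟩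
    have hc' : algebraMap k A c = ((g / g' : M) : A) := congrArg Subtype.val hc
    have hcc : c = 1 := by
      have := (g / g').2.1
      rw [← hc', Bialgebra.counit_algebraMap] at this
      exact this
    exact div_eq_one.1 (GroupLike.val_injective (by rw [← hc', hcc, map_one, GroupLike.val_one]))
  haveI : Module.Finite ℤ (Additive M) := Module.Finite.iff_addGroup_fg.2 inferInstance
  let b : Module.Basis (Fin (Module.finrank ℤ (Additive M))) ℤ (Additive M) := Module.finBasis ℤ _
  let mk : (Fin (Module.finrank ℤ (Additive M)) → ℤ) → M := fun a => Additive.toMul (b.equivFun.symm a)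
  have hmk : Function.Bijective mk := Additive.toMul.bijective.comp b.equivFun.symm.bijective
  have hmk0 : mk 0 = 1 := by simp [mk]
  have hmka : ∀ a c, mk (a + c) = mk a * mk c := fun a c => by
    simp only [mk, map_add, toMul_add]
  let ev : M → ((pt k k ⟶ T) →* k) := fun m =>
    { toFun := fun t => ((ptsEquiv e).symm t).ofConv (m : A)
      map_one' := by
        rw [map_one]
        show algebraMap k k (Coalgebra.counit (R := k) (m : A)) = 1
        rw [m.2.1, map_one]
      map_mul' := fun t t' => by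
        rw [map_mul]
        exact conv_mul_groupLike _ _ m }
  refine ⟨⟨_, fun a => ev (mk a), fun t => ?_, fun a c t => ?_, ?_, fun a => toFn (mk a : A), fun a t => ?_,
    fun f => ?_, fun l s => ?_, fun t ht => ?_⟩⟩
  · show ((ptsEquiv e).symm t).ofConv (mk 0 : A) = 1
    rw [hmk0, GroupLike.val_one, map_one]
  · show ((ptsEquiv e).symm t).ofConv (mk (a + c) : A) = _
    rw [hmka, GroupLike.val_mul, map_mul]
    rfl
  · intro a c h
    refine hmk.1 (GroupLike.ext (sub_eq_zero.1 (GrothLib.Dense.eq_zero_of_forall_point (k := k) _ fun φ => ?_)))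
    have h2 : ((ptsEquiv e).symm (ptsEquiv e (toConv φ))).ofConv (mk a : A) =
        ((ptsEquiv e).symm (ptsEquiv e (toConv φ))).ofConv (mk c : A) := DFunLike.congr_fun h _
    rw [MulEquiv.symm_apply_apply] at h2
    rw [map_sub, sub_eq_zero]
    exact h2
  · obtain ⟨φ, rfl⟩ := (ptsEquiv e).surjective t
    show _ = ((ptsEquiv e).symm (ptsEquiv e φ)).ofConv _
    rw [MulEquiv.symm_apply_apply, hval, hto]
  · have hspan : toA f ∈ Submodule.span k (Set.range fun m : M => (m : A)) := by
      have : Set.range (fun m : M => (m : A)) = {a : A | IsGroupLikeElem k a} := by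
        ext x
        exact ⟨by rintro ⟨m, rfl⟩; exact m.2, fun hx => ⟨⟨x, hx⟩, rfl⟩⟩
      rw [this, show Submodule.span k _ = ⊤ from hA]
      trivial
    obtain ⟨c, hc⟩ := Finsupp.mem_span_range_iff_exists_finsupp.1 hspan
    refine ⟨c.equivMapDomain (Equiv.ofBijective mk hmk).symm, fun t => ?_⟩
    obtain ⟨φ, rfl⟩ := (ptsEquiv e).surjective t
    rw [hval, ← hc, Finsupp.sum_equivMapDomain, map_finsuppSum]
    refine Finsupp.sum_congr fun m _ => ?_
    rw [map_smul, smul_eq_mul]
    show _ = _ * ((ptsEquiv e).symm (ptsEquiv e φ)).ofConv (mk ((Equiv.ofBijective mk hmk).symm m) : A)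
    rw [MulEquiv.symm_apply_apply, Equiv.ofBijective_apply_symm_apply mk hmk m]
  · let θ : M →* k :=
      { toFun := fun m => ((s ^ l (b.equivFun (Additive.ofMul m)) : kˣ) : k)
        map_one' := by simp
        map_mul' := fun m m' => by
          rw [ofMul_mul, map_add, map_add, zpow_add, Units.val_mul] }
    obtain ⟨φ, hφ⟩ := exists_point hA θ
    refine ⟨ptsEquiv e φ, fun a => ?_⟩
    show ((ptsEquiv e).symm (ptsEquiv e φ)).ofConv (mk a : A) = _
    rw [MulEquiv.symm_apply_apply]
    refine (hφ (mk a)).trans ?_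
    show ((s ^ l (b.equivFun (b.equivFun.symm a)) : kˣ) : k) = _
    rw [LinearEquiv.apply_symm_apply]
  · obtain ⟨φ, rfl⟩ := (ptsEquiv e).surjective t
    rw [conv_ext_groupLike hA (φ := φ) (φ' := 1) fun g => ?_, map_one]
    obtain ⟨a, rfl⟩ := hmk.2 g
    have h2 : ((ptsEquiv e).symm (ptsEquiv e φ)).ofConv (mk a : A) = 1 := ht a
    rw [MulEquiv.symm_apply_apply] at h2
    refine Eq.trans h2 ?_
    show 1 = algebraMap k k (Coalgebra.counit (R := k) ((mk a) : A))
    rw [(mk a).2.1, map_one]

/-- A connected group without subtori has no non-trivial homomorphism to a torus. -/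
theorem TorusData.hom_trivial {T U : Over (Spec (CommRingCat.of k))} [GrpObj T] [GrpObj U] (D : TorusData T)
    [IsAffine U.left] [Smooth U.hom] [ConnectedSpace U.left] (hs : IsSolvable (pt k k ⟶ U))
    (hU : Red.HasNoSubtorus k U) (l : U ⟶ T) [IsMonHom l] (u : pt k k ⟶ U) : u ≫ l = 1 := by
  refine D.eq_one _ fun a => ?_
  rw [← D.valAt_fn, valAt_comp]
  refine GrothLib.UnipFix19.char_eq_one hs hU _ ?_ (fun g g' => ?_) u
  · rw [← valAt_comp, D.valAt_fn, MonObj.one_comp, map_one]
  · rw [← valAt_comp, ← valAt_comp, ← valAt_comp, D.valAt_fn, D.valAt_fn, D.valAt_fn, MonObj.mul_comp, map_mul]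

end GrothLib.SelfCent19
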