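import Groth.Agent.Lib.SelfCent19.Cone
import Groth.Agent.Lib.SelfCent19.Torus
import Groth.Agent.Lib.Flag27.CentMax
import Groth.Agent.Lib.Flag27.BorelTheorem
import Groth.Agent.S3901

/-!
# Weights of a maximal torus on the cone
-/

set_option autoImplicit false
set_option linter.all false
set_option backward.isDefEq.respectTransparency false

universe u

open CategoryTheory CategoryTheory.Limits MonoidalCategory CartesianMonoidalCategory MonObj GrpObj
open AlgebraicGeometry VecGrp TopologicalSpace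
open GrothLib.Repr GrothLib.Induce27 GrothLib.Flag27

noncomputable section

set_option synthInstance.maxHeartbeats 200000
set_option maxHeartbeats 2000000

namespace GrothLib.SelfCent19

open Finset

variable {k : Type u} [Field k] [IsAlgClosed k]
  {G B T : Over (Spec (CommRingCat.of k))} [GrpObj G] [GrpObj B] [GrpObj T] [IsAffine G.left] [Smooth G.hom]

/-- An additive form separating finitely many lattice points. -/
theorem exists_sep {r : ℕ} (S : Finset (Fin r → ℤ)) :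
    ∃ l : (Fin r → ℤ) →+ ℤ, Set.InjOn l S := by
  classical
  let P : (Fin r → ℤ) → Polynomial ℤ := fun a => ∑ j, Polynomial.C (a j) * Polynomial.X ^ (j : ℕ)
  have hP : ∀ (a : Fin r → ℤ) (j : Fin r), (P a).coeff (j : ℕ) = a j := fun a j => by
    rw [Polynomial.finsetSum_coeff, Finset.sum_eq_single j (fun i _ hi => ?_) (by simp)]
    · simp
    · rw [Polynomial.coeff_C_mul_X_pow, if_neg fun h => hi (Fin.ext h.symm)]
  let bad : Set ℤ := ⋃ p ∈ (S ×ˢ S).filter (fun p => p.1 ≠ p.2), {x | (P p.1 - P p.2).IsRoot x}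
  have hbad : bad.Finite := by
    refine Set.Finite.biUnion (Finset.finite_toSet _) fun p hp => Polynomial.finite_setOf_isRoot fun h => ?_
    refine (Finset.mem_filter.1 hp).2 (funext fun j => ?_)
    have := congrArg (fun q : Polynomial ℤ => q.coeff (j : ℕ)) h
    simp only [Polynomial.coeff_sub, hP, Polynomial.coeff_zero, sub_eq_zero] at this
    exact this
  obtain ⟨s, hs⟩ := hbad.infinite_compl.nonempty
  refine ⟨∑ j : Fin r, (s ^ (j : ℕ)) • Pi.evalAddMonoidHom (fun _ : Fin r => ℤ) j, fun a ha b hb h => ?_⟩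
  by_contra hne
  refine hs (Set.mem_iUnion₂.2 ⟨(a, b), Finset.mem_filter.2 ⟨Finset.mem_product.2 ⟨ha, hb⟩, hne⟩, ?_⟩)
  show Polynomial.eval s (P a - P b) = 0
  simp only [AddMonoidHom.finsetSum_apply, AddMonoidHom.smul_apply, Pi.evalAddMonoidHom_apply, smul_eq_mul] at h
  simp only [P, Polynomial.eval_sub, Polynomial.eval_finsetSum, Polynomial.eval_mul, Polynomial.eval_C,
    Polynomial.eval_pow, Polynomial.eval_X, sub_eq_zero]
  simpa only [mul_comm] using h

/-- The weight decomposition of a representation restricted to the torus. -/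
structure WeightData {i : B ⟶ G} (D : LineData i) (τ : TorusData T) (iT : T ⟶ G) where
  W : Finset (Fin τ.r → ℤ)
  E : (Fin τ.r → ℤ) → Matrix (Fin D.n) (Fin D.n) k
  eq_sum : ∀ t : pt k k ⟶ T, D.M (t ≫ iT) = ∑ a ∈ W, τ.ch a t • E a
  ne : ∀ a ∈ W, E a ≠ 0
  mem : ∀ a, E a ≠ 0 → a ∈ W
  sum_eq : ∑ a ∈ W, E a = 1
  mul : ∀ a b, E a * E b = if a = b then E a else 0
  eig : ∀ a t, D.M (t ≫ iT) * E a = τ.ch a t • E a

theorem TorusData.lin (τ : TorusData T) {m n : ℕ} (S : Finset (Fin τ.r → ℤ))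
    (Q : (Fin τ.r → ℤ) → Matrix (Fin m) (Fin n) k) (h : ∀ t, ∑ a ∈ S, τ.ch a t • Q a = 0) :
    ∀ a ∈ S, Q a = 0 := by
  intro a ha
  have hli := (linearIndependent_monoidHom (pt k k ⟶ T) k).comp τ.ch τ.ch_injective
  refine Matrix.ext fun x y => linearIndependent_iff'.1 hli S (fun b => Q b x y) ?_ a ha
  funext t
  have := congrFun (congrFun (h t) x) y
  rw [Matrix.sum_apply] at this
  rw [Finset.sum_apply]
  exact (Finset.sum_congr rfl fun b _ => by
    simp only [Matrix.smul_apply, Pi.smul_apply, Function.comp_apply, smul_eq_mul, mul_comm]).trans this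

theorem exists_weightData {i : B ⟶ G} (D : LineData i) (τ : TorusData T) (iT : T ⟶ G) [IsMonHom iT] :
    Nonempty (WeightData D τ iT) := by
  classical
  choose c hc using fun p : Fin D.n × Fin D.n => τ.expand (fnMap iT (D.A p.1 p.2))
  let S : Finset (Fin τ.r → ℤ) := Finset.univ.biUnion fun p => (c p).support
  let E : (Fin τ.r → ℤ) → Matrix (Fin D.n) (Fin D.n) k := fun a => Matrix.of fun x y => c (x, y) a
  have hS : ∀ a, E a ≠ 0 → a ∈ S := by
    intro a h
    by_contra hn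
    exact h (Matrix.ext fun x y => by
      by_contra h0
      exact hn (Finset.mem_biUnion.2 ⟨(x, y), Finset.mem_univ _, Finsupp.mem_support_iff.2 h0⟩))
  let W := S.filter fun a => E a ≠ 0
  have hsum : ∀ t : pt k k ⟶ T, D.M (t ≫ iT) = ∑ a ∈ W, τ.ch a t • E a := by
    intro t
    rw [Finset.sum_subset (Finset.filter_subset _ S) fun a haS ha => by
      rw [show E a = 0 from not_not.1 fun h => ha (Finset.mem_filter.2 ⟨haS, h⟩), smul_zero]]
    refine Matrix.ext fun x y => ?_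
    show valAt (t ≫ iT) (D.A x y) = _
    rw [valAt_comp, hc (x, y) t, Finsupp.sum_of_support_subset (c (x, y)) (s := S)
      (Finset.subset_biUnion_of_mem (fun p => (c p).support) (Finset.mem_univ (x, y))) (fun a x => x * τ.ch a t) (fun a _ => zero_mul _),
      Matrix.sum_apply]
    exact Finset.sum_congr rfl fun a _ => mul_comm _ _
  have heig : ∀ a t, D.M (t ≫ iT) * E a = τ.ch a t • E a := by
    intro a t
    by_cases ha : a ∈ W
    · exact sub_eq_zero.1 (τ.lin W (fun b => D.M (t ≫ iT) * E b - τ.ch b t • E b) (fun s => by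
        have h2 : ∑ b ∈ W, τ.ch b s • τ.ch b t • E b = ∑ b ∈ W, τ.ch b (t * s) • E b :=
          Finset.sum_congr rfl fun b _ => by rw [smul_smul, map_mul, mul_comm]
        simp only [smul_sub, Finset.sum_sub_distrib, ← Matrix.mul_smul, ← Finset.mul_sum, ← hsum, h2]
        rw [MonObj.mul_comp, D.M_mul, sub_self]) a ha)
    · have : E a = 0 := by
        by_contra h
        exact ha (Finset.mem_filter.2 ⟨hS a h, h⟩)
      rw [this, Matrix.mul_zero, smul_zero]
  refine ⟨⟨W, E, hsum, fun a ha => (Finset.mem_filter.1 ha).2, fun a h => Finset.mem_filter.2 ⟨hS a h, h⟩, ?_, ?_, heig⟩⟩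
  · have h := hsum 1
    rw [MonObj.one_comp, D.M_one] at h
    rw [h]
    exact Finset.sum_congr rfl fun a _ => by rw [map_one, one_smul]
  · intro a b
    by_cases ha : a ∈ W
    · have := τ.lin W (fun c => E c * E b - if c = b then E b else 0) (fun t => by
        simp only [smul_sub, Finset.sum_sub_distrib, ← Matrix.smul_mul, ← Finset.sum_mul, ← hsum, heig,
          smul_ite, smul_zero, Finset.sum_ite_eq']
        split_ifs with hb
        · rw [sub_self]
        · have : E b = 0 := by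
            by_contra h
            exact hb (Finset.mem_filter.2 ⟨hS b h, h⟩)
          rw [this, smul_zero, sub_zero]) a ha
      rw [sub_eq_zero] at this
      rw [this]
      split_ifs with h
      · rw [h]
      · rfl
    · have : E a = 0 := by
        by_contra h
        exact ha (Finset.mem_filter.2 ⟨hS a h, h⟩)
      rw [this, Matrix.zero_mul, ite_self]

namespace LineData

variable {i : B ⟶ G} (D : LineData i)

theorem cone_map (M : Matrix (Fin D.n) (Fin D.n) k) (hM : ∀ (g : pt k k ⟶ G) (s : k), M.mulVec (s • D.v g) ∈ D.cone)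
    {w : Fin D.n → k} (hw : w ∈ D.cone) : M.mulVec w ∈ D.cone := by
  intro P hP
  have e : ∀ u : Fin D.n → k,
      MvPolynomial.eval u (MvPolynomial.bind₁ (fun j => ∑ l, MvPolynomial.C (M j l) * MvPolynomial.X l) P) =
        MvPolynomial.eval (M.mulVec u) P := fun u => by
    change MvPolynomial.eval₂Hom (RingHom.id k) u (MvPolynomial.bind₁ _ P) = _
    rw [MvPolynomial.eval₂Hom_bind₁]
    congr 2
    funext j
    simp [Matrix.mulVec, dotProduct]
  rw [← e]
  exact hw _ fun g s => by rw [e]; exact hM g s P hP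

theorem cone_M (g : pt k k ⟶ G) {w : Fin D.n → k} (hw : w ∈ D.cone) : (D.M g).mulVec w ∈ D.cone :=
  D.cone_map _ (fun h s => by rw [Matrix.mulVec_smul, M_v]; exact D.smul_v_mem _ _) hw

theorem cone_smul (c : k) {w : Fin D.n → k} (hw : w ∈ D.cone) : c • w ∈ D.cone := by
  have := D.cone_map (c • (1 : Matrix (Fin D.n) (Fin D.n) k)) (fun g s => by
    rw [Matrix.smul_mulVec, Matrix.one_mulVec, smul_smul]
    exact D.smul_v_mem _ _) hw
  rwa [Matrix.smul_mulVec, Matrix.one_mulVec] at this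

theorem v_mem (g : pt k k ⟶ G) : D.v g ∈ D.cone := by
  simpa using D.smul_v_mem g 1

theorem M_inv_mulVec (x : pt k k ⟶ G) (w : Fin D.n → k) : (D.M x).mulVec ((D.M x⁻¹).mulVec w) = w := by
  rw [Matrix.mulVec_mulVec, ← M_mul, mul_inv_cancel, M_one, Matrix.one_mulVec]

end LineData

namespace WeightData

variable {i : B ⟶ G} {D : LineData i} {τ : TorusData T} {iT : T ⟶ G} (wd : WeightData D τ iT)

theorem mulVec_idem (a : Fin τ.r → ℤ) (w : Fin D.n → k) :
    (wd.E a).mulVec ((wd.E a).mulVec w) = (wd.E a).mulVec w := by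
  rw [Matrix.mulVec_mulVec, wd.mul, if_pos rfl]

theorem mulVec_orth {a b : Fin τ.r → ℤ} (h : a ≠ b) (w : Fin D.n → k) :
    (wd.E a).mulVec ((wd.E b).mulVec w) = 0 := by
  rw [Matrix.mulVec_mulVec, wd.mul, if_neg h, Matrix.zero_mulVec]

theorem exists_component {w : Fin D.n → k} (hw : w ≠ 0) : ∃ a ∈ wd.W, (wd.E a).mulVec w ≠ 0 := by
  by_contra h
  push_neg at h
  refine hw ?_
  rw [← Matrix.one_mulVec w, ← wd.sum_eq, Matrix.sum_mulVec]
  exact Finset.sum_eq_zero h

/-- The top components of a point of the cone lie in the cone. -/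
theorem lead {w : Fin D.n → k} (hw : w ∈ D.cone) (l : (Fin τ.r → ℤ) →+ ℤ) (q : ℤ)
    (hq : ∀ a ∈ wd.W, (wd.E a).mulVec w ≠ 0 → l a ≤ q) :
    ∑ a ∈ wd.W with l a = q, (wd.E a).mulVec w ∈ D.cone := by
  classical
  intro P hP
  let Q : Polynomial k := MvPolynomial.aeval
    (fun j => ∑ a ∈ wd.W, Polynomial.C ((wd.E a).mulVec w j) * Polynomial.X ^ (q - l a).toNat) P
  have hQ : ∀ u : k, Q.eval u = MvPolynomial.eval (∑ a ∈ wd.W, u ^ (q - l a).toNat • (wd.E a).mulVec w) P := by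
    intro u
    have : (Polynomial.aeval u).comp (MvPolynomial.aeval (R := k)
        (fun j => ∑ a ∈ wd.W, Polynomial.C ((wd.E a).mulVec w j) * Polynomial.X ^ (q - l a).toNat)) =
        MvPolynomial.aeval (∑ a ∈ wd.W, u ^ (q - l a).toNat • (wd.E a).mulVec w) := by
      refine MvPolynomial.algHom_ext fun j => ?_
      simp [mul_comm, Polynomial.eval_finsetSum]
    have h := DFunLike.congr_fun this P
    rw [AlgHom.comp_apply, MvPolynomial.aeval_eq_eval, Polynomial.coe_aeval_eq_eval] at h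
    exact h
  have h0 : Q = 0 := by
    refine Polynomial.eq_zero_of_infinite_isRoot _ ((Set.finite_singleton (0 : k)).infinite_compl.mono ?_)
    intro u hu
    have hu0 : u ≠ 0 := hu
    show Q.eval u = 0
    rw [hQ]
    obtain ⟨t, ht⟩ := τ.exists_cochar l (Units.mk0 u hu0)⁻¹
    have e : ∑ a ∈ wd.W, u ^ (q - l a).toNat • (wd.E a).mulVec w = u ^ q • (D.M (t ≫ iT)).mulVec w := by
      rw [wd.eq_sum, Matrix.sum_mulVec, Finset.smul_sum]
      refine Finset.sum_congr rfl fun a ha => ?_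
      rw [Matrix.smul_mulVec, smul_smul]
      by_cases hz : (wd.E a).mulVec w = 0
      · simp [hz]
      · congr 1
        rw [ht, Units.val_zpow_eq_zpow_val, Units.val_inv_eq_inv_val, Units.val_mk0, inv_zpow', ← zpow_natCast,
          Int.toNat_of_nonneg (sub_nonneg.2 (hq a ha hz)), ← zpow_add₀ hu0, sub_eq_add_neg]
    rw [e]
    exact D.cone_smul _ (D.cone_M _ hw) P hP
  have h1 := hQ 0
  rw [h0, Polynomial.eval_zero] at h1
  rw [Finset.sum_filter]
  refine Eq.trans ?_ h1.symm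
  refine congrArg (fun x => MvPolynomial.eval x P) (Finset.sum_congr rfl fun a ha => ?_)
  by_cases hz : (wd.E a).mulVec w = 0
  · simp [hz]
  · have := hq a ha hz
    by_cases he : l a = q
    · rw [if_pos he, he, sub_self, Int.toNat_zero, pow_zero, one_smul]
    · rw [if_neg he, zero_pow (by omega), zero_smul]

theorem lead_single {w : Fin D.n → k} (hw : w ∈ D.cone) (l : (Fin τ.r → ℤ) →+ ℤ) (hl : Set.InjOn l wd.W)
    {a : Fin τ.r → ℤ} (ha : a ∈ wd.W) (hq : ∀ b ∈ wd.W, (wd.E b).mulVec w ≠ 0 → l b ≤ l a) :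
    (wd.E a).mulVec w ∈ D.cone := by
  classical
  have h := wd.lead hw l (l a) hq
  have e : ∑ b ∈ wd.W with l b = l a, (wd.E b).mulVec w = (wd.E a).mulVec w :=
    Finset.sum_eq_single a
      (fun b hb hne => absurd (hl (Finset.mem_filter.1 hb).1 ha (Finset.mem_filter.1 hb).2) hne)
      (fun hn => (hn (Finset.mem_filter.2 ⟨ha, rfl⟩)).elim)
  rwa [e] at h

/-- A weight occurring on the cone at the top. -/
theorem exists_top {w : Fin D.n → k} (hw : w ∈ D.cone) (hw0 : w ≠ 0) (l : (Fin τ.r → ℤ) →+ ℤ)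
    (hl : Set.InjOn l wd.W) :
    ∃ a ∈ wd.W, (wd.E a).mulVec w ≠ 0 ∧ (wd.E a).mulVec w ∈ D.cone ∧
      ∀ b ∈ wd.W, (wd.E b).mulVec w ≠ 0 → l b ≤ l a := by
  classical
  obtain ⟨a₀, ha₀, h₀⟩ := wd.exists_component hw0
  obtain ⟨a, ha, hmax⟩ := (wd.W.filter fun a => (wd.E a).mulVec w ≠ 0).exists_max_image l
    ⟨a₀, Finset.mem_filter.2 ⟨ha₀, h₀⟩⟩
  obtain ⟨haW, ha0⟩ := Finset.mem_filter.1 ha
  have hq : ∀ b ∈ wd.W, (wd.E b).mulVec w ≠ 0 → l b ≤ l a := fun b hb h => hmax b (Finset.mem_filter.2 ⟨hb, h⟩)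
  exact ⟨a, haW, ha0, wd.lead_single hw l hl haW hq, hq⟩

/-- The weights with eigenvectors on the cone. -/
def Eig (a : Fin τ.r → ℤ) : Prop := ∃ w ∈ D.cone, w ≠ 0 ∧ (wd.E a).mulVec w = w

theorem Eig.mem_W {a : Fin τ.r → ℤ} (h : wd.Eig a) : a ∈ wd.W := by
  obtain ⟨w, -, hw0, hw⟩ := h
  exact wd.mem a fun h0 => hw0 (by rw [← hw, h0, Matrix.zero_mulVec])

end WeightData

/-- Rational points normalising the torus. -/
def IsNorm (iT : T ⟶ G) (x : pt k k ⟶ G) (e : T ≅ T) : Prop :=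
  e.hom ≫ iT = AGF.conjBy (ptOne.inv ≫ x) iT

theorem comp_conj_pt (iT : T ⟶ G) (x : pt k k ⟶ G) (t : pt k k ⟶ T) :
    t ≫ AGF.conjBy (ptOne.inv ≫ x) iT = x * (t ≫ iT) * x⁻¹ := by
  rw [comp_conjBy, toUnit_unique (toUnit (pt k k)) ptOne.hom, ptOne.hom_inv_id_assoc]

theorem IsNorm.apply {iT : T ⟶ G} {x : pt k k ⟶ G} {e : T ≅ T} (h : IsNorm iT x e) (t : pt k k ⟶ T) :
    (t ≫ e.hom) ≫ iT = x * (t ≫ iT) * x⁻¹ := by
  rw [Category.assoc, h, comp_conj_pt]

theorem IsNorm.mul {iT : T ⟶ G} {x y : pt k k ⟶ G} {e e' : T ≅ T} (h : IsNorm iT x e) (h' : IsNorm iT y e') :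
    IsNorm iT (x * y) (e' ≪≫ e) := by
  show (e'.hom ≫ e.hom) ≫ iT = _
  rw [Category.assoc, h, comp_conjBy', h', conjBy_conjBy, MonObj.comp_mul]

theorem IsNorm.inv {iT : T ⟶ G} {x : pt k k ⟶ G} {e : T ≅ T} (h : IsNorm iT x e) :
    IsNorm iT x⁻¹ e.symm := by
  show e.inv ≫ iT = _
  rw [← cancel_epi e.hom, Iso.hom_inv_id_assoc, comp_conjBy', h, conjBy_conjBy, ← MonObj.comp_mul,
    inv_mul_cancel, MonObj.comp_one, conjBy_one]

namespace WeightData

variable {i : B ⟶ G} {D : LineData i} {τ : TorusData T} {iT : T ⟶ G} (wd : WeightData D τ iT)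

/-- Normalising points permute the weights. -/
theorem exists_perm [IsMonHom iT] [Mono iT] {x : pt k k ⟶ G} {e : T ≅ T} (h : IsNorm iT x e) {a : Fin τ.r → ℤ} (ha : a ∈ wd.W) :
    ∃ b ∈ wd.W, (∀ t, τ.ch b t = τ.ch a (t ≫ e.hom)) ∧ wd.E a * D.M x = D.M x * wd.E b := by
  classical
  have hmul : ∀ t t' : pt k k ⟶ T, (t * t') ≫ e.hom = (t ≫ e.hom) * (t' ≫ e.hom) := fun t t' => by
    rw [← cancel_mono iT, MonObj.mul_comp _ _ iT, h.apply, h.apply, h.apply, MonObj.mul_comp]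
    group
  have hcomm : ∀ t : pt k k ⟶ T, D.M ((t ≫ e.hom) ≫ iT) * D.M x = D.M x * D.M (t ≫ iT) := fun t => by
    rw [← D.M_mul, ← D.M_mul, h.apply, inv_mul_cancel_right]
  let ψ : (Fin τ.r → ℤ) → ((pt k k ⟶ T) →* k) := fun a =>
    (τ.ch a).comp (MonoidHom.mk' (fun t : pt k k ⟶ T => t ≫ e.hom) hmul)
  have hψ : Function.Injective ψ := fun a b hab => τ.ch_injective (MonoidHom.ext fun t => by
    have := DFunLike.congr_fun hab (t ≫ e.inv)
    simp only [ψ, MonoidHom.comp_apply, MonoidHom.mk'_apply, Category.assoc, Iso.inv_hom_id, Category.comp_id] at this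
    exact this)
  have hrel : ∀ (a : Fin τ.r → ℤ) (t : pt k k ⟶ T),
      ψ a t • (wd.E a * D.M x) = ∑ b ∈ wd.W, τ.ch b t • (wd.E a * D.M x * wd.E b) := by
    intro a t
    have e1 : wd.E a * (D.M ((t ≫ e.hom) ≫ iT) * D.M x) = ψ a t • (wd.E a * D.M x) := by
      rw [← Matrix.mul_assoc]
      have : wd.E a * D.M ((t ≫ e.hom) ≫ iT) = ψ a t • wd.E a := by
        rw [wd.eq_sum, Finset.mul_sum]
        simp only [Matrix.mul_smul, wd.mul, smul_ite, smul_zero, Finset.sum_ite_eq]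
        split_ifs with ha
        · rfl
        · rw [show wd.E a = 0 from not_not.1 fun h0 => ha (wd.mem a h0), smul_zero]
      rw [this, Matrix.smul_mul]
    rw [← e1, hcomm, wd.eq_sum, Finset.mul_sum, Finset.mul_sum]
    exact Finset.sum_congr rfl fun b _ => by rw [Matrix.mul_smul, Matrix.mul_smul, Matrix.mul_assoc]
  have hne : ∀ a ∈ wd.W, wd.E a * D.M x ≠ 0 := fun a ha h0 => wd.ne a ha (by
    have := congrArg (· * D.M x⁻¹) h0
    simpa [Matrix.mul_assoc, ← D.M_mul, D.M_one] using this)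
  have hli := linearIndependent_monoidHom (pt k k ⟶ T) k
  have key : ∀ a ∈ wd.W, ∃ b ∈ wd.W, τ.ch b = ψ a ∧ ∀ c, c ≠ b → wd.E a * D.M x * wd.E c = 0 := by
    intro a ha
    obtain ⟨p, q, hpq⟩ : ∃ p q, (wd.E a * D.M x) p q ≠ 0 := by
      by_contra hn
      push_neg at hn
      exact hne a ha (Matrix.ext hn)
    have hex : ∃ b ∈ wd.W, τ.ch b = ψ a := by
      by_contra hn
      push_neg at hn
      let S : Finset ((pt k k ⟶ T) →* k) := insert (ψ a) (wd.W.image τ.ch)
      have hnot : ψ a ∉ wd.W.image τ.ch := by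
        simp only [Finset.mem_image, not_exists, not_and]
        exact hn
      let g : ((pt k k ⟶ T) →* k) → k := fun c => if c = ψ a then (wd.E a * D.M x) p q
        else -(∑ b ∈ wd.W with τ.ch b = c, (wd.E a * D.M x * wd.E b) p q)
      have := linearIndependent_iff'.1 hli S g ?_ (ψ a) (Finset.mem_insert_self _ _)
      · simp only [g, if_pos rfl] at this
        exact hpq this
      funext t
      rw [Finset.sum_apply, Finset.sum_insert hnot, Finset.sum_image fun _ _ _ _ h => τ.ch_injective h, Pi.zero_apply]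
      have e2 := congrFun (congrFun (hrel a t) p) q
      rw [Matrix.sum_apply] at e2
      simp only [Matrix.smul_apply, smul_eq_mul] at e2
      have e3 : ∀ b ∈ wd.W, g (τ.ch b) = -(wd.E a * D.M x * wd.E b) p q := fun b hb => by
        simp only [g, if_neg (hn b hb)]
        rw [Finset.sum_eq_single b (fun c hc hne => absurd (τ.ch_injective (Finset.mem_filter.1 hc).2) hne)
          (fun h => (h (Finset.mem_filter.2 ⟨hb, rfl⟩)).elim)]
      rw [Finset.sum_congr rfl fun b hb => show (g (τ.ch b) • ⇑(τ.ch b)) t = -(τ.ch b t * (wd.E a * D.M x * wd.E b) p q) by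
        rw [Pi.smul_apply, smul_eq_mul, e3 b hb, neg_mul, mul_comm]]
      simp only [g, if_pos rfl, Pi.smul_apply, smul_eq_mul]
      rw [mul_comm, e2, Finset.sum_neg_distrib, add_neg_cancel]
    obtain ⟨b, hb, hbψ⟩ := hex
    refine ⟨b, hb, hbψ, fun c hc => ?_⟩
    by_cases hcW : c ∈ wd.W
    · have := τ.lin wd.W (fun c => wd.E a * D.M x * wd.E c - if c = b then wd.E a * D.M x else 0) (fun t => by
        simp only [smul_sub, Finset.sum_sub_distrib, smul_ite, smul_zero, Finset.sum_ite_eq', if_pos hb]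
        rw [← hrel, hbψ, sub_self]) c hcW
      simpa [hc] using this
    · rw [show wd.E c = 0 from not_not.1 fun h0 => hcW (wd.mem c h0), Matrix.mul_zero]
  obtain ⟨b, hb, hbψ, hzero⟩ := key a ha
  refine ⟨b, hb, fun t => DFunLike.congr_fun hbψ t, ?_⟩
  have e1 : wd.E a * D.M x = wd.E a * D.M x * wd.E b := by
    conv_lhs => rw [← Matrix.mul_one (wd.E a * D.M x), ← wd.sum_eq, Finset.mul_sum]
    exact Finset.sum_eq_single b (fun c _ hc => hzero c hc) (fun h => absurd hb h)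
  rw [e1]
  have e2 : D.M x * wd.E b = ∑ a' ∈ wd.W, wd.E a' * D.M x * wd.E b := by
    rw [← Finset.sum_mul, ← Finset.sum_mul, wd.sum_eq, Matrix.one_mul]
  rw [e2, Finset.sum_eq_single a (fun a' ha' hne' => ?_) (fun h => absurd ha h)]
  obtain ⟨b', -, hb'ψ, hzero'⟩ := key a' ha'
  exact hzero' b fun hbb => hne' (hψ (hb'ψ.symm.trans ((congrArg τ.ch hbb).symm.trans hbψ)))

variable [IsAffine B.left] [Smooth B.hom] [ConnectedSpace B.left] [ConnectedSpace G.left]

/-- Eigenvectors on the cone come from normalising points. -/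
theorem exists_norm_of_eigen (hB : Red.IsBorelOver k i) (hinf : (Set.range D.χ).Infinite) (hT : AGF.IsMaxTorus iT)
    (t₀ : T ⟶ B) (ht₀ : t₀ ≫ i = iT) {a : Fin τ.r → ℤ} {u : Fin D.n → k} (hu : u ∈ D.cone) (hu0 : u ≠ 0)
    (hua : (wd.E a).mulVec u = u) :
    ∃ (x : pt k k ⟶ G) (e : T ≅ T) (c : k), c ≠ 0 ∧ IsNorm iT x e ∧ u = c • D.v x := by
  classical
  obtain ⟨hTm, hTmono, hTt, hTmax⟩ := id hT
  haveI := hTm; haveI := hTmono
  obtain ⟨hi, hic, -, -, -, -⟩ := id hB
  haveI := hi; haveI := hic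
  haveI : Mono i := Over.mono_of_mono_left i
  obtain ⟨-, hTa, hTs, hTc⟩ := torus_facts hTt iT
  haveI := hTa; haveI := hTs; haveI := hTc
  haveI : IsReduced T.left := GrothLib.RedSmooth.isReduced_of_smooth T.hom
  haveI : LocallyOfFiniteType T.hom := inferInstance
  obtain ⟨g, s, rfl⟩ := D.exists_of_mem_cone hB hinf hu
  have hs : s ≠ 0 := fun h => hu0 (by rw [h, zero_smul])
  have hfac : ∀ t : pt k k ⟶ T, ∃ b, b ≫ i = g⁻¹ * (t ≫ iT) * g := fun t => by
    refine D.det _ (τ.ch a t) fun j => ?_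
    have e1 : (D.M (t ≫ iT)).mulVec (s • D.v g) = τ.ch a t • (s • D.v g) := by
      rw [← hua, Matrix.mulVec_mulVec, wd.eig, Matrix.smul_mulVec]
    rw [Matrix.mulVec_smul, LineData.M_v, smul_comm] at e1
    have e2 : D.v ((t ≫ iT) * g) = τ.ch a t • D.v g := smul_right_injective _ hs e1
    have e3 := congrArg (D.M g⁻¹).mulVec e2
    rw [Matrix.mulVec_smul, LineData.M_v, LineData.M_v, inv_mul_cancel, ← _root_.mul_assoc] at e3
    exact congrFun e3 j
  let g₁ : 𝟙_ (Over (Spec (CommRingCat.of k))) ⟶ G := ptOne.inv ≫ g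
  obtain ⟨f, hf⟩ := exists_lift_of_pts (AGF.conjBy g₁⁻¹ iT) i fun v => by
    obtain ⟨b, hb⟩ := hfac (ptOne.hom ≫ v)
    refine ⟨ptOne.inv ≫ b, ?_⟩
    rw [← cancel_epi ptOne.hom, Category.assoc, ptOne.hom_inv_id_assoc, hb, ← Category.assoc,
      show g₁⁻¹ = ptOne.inv ≫ g⁻¹ from (GrpObj.comp_inv _ _).symm, comp_conj_pt, _root_.inv_inv]
  haveI : IsMonHom (AGF.conjBy g₁⁻¹ iT) := isMonHom_conjBy _ iT
  haveI : Mono (AGF.conjBy g₁⁻¹ iT) := by
    rw [conjBy_eq_comp]
    exact mono_comp iT _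
  haveI : IsMonHom (f ≫ i) := by rw [hf]; infer_instance
  haveI : IsMonHom f := GrothLib.CentMT14.isMonHom_of_comp f i
  haveI : Mono (f ≫ i) := by rw [hf]; infer_instance
  haveI : Mono f := mono_of_mono f i
  haveI : IsMonHom (t₀ ≫ i) := by rw [ht₀]; infer_instance
  haveI : IsMonHom t₀ := GrothLib.CentMT14.isMonHom_of_comp t₀ i
  haveI : Mono (t₀ ≫ i) := by rw [ht₀]; infer_instance
  haveI : Mono t₀ := mono_of_mono t₀ i
  have hmax₀ : AGF.IsMaxTorus t₀ := ⟨inferInstance, inferInstance, hTt, fun T' _ j _ _ φ hT' hφ =>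
    hTmax T' (j ≫ i) φ hT' (by rw [← Category.assoc, hφ, ht₀])⟩
  have hmax₁ : AGF.IsMaxTorus f := ⟨inferInstance, inferInstance, hTt, fun T' _ j _ _ φ hT' hφ => by
    haveI : IsMonHom (AGF.conjBy g₁ (j ≫ i)) := isMonHom_conjBy _ _
    haveI : Mono (AGF.conjBy g₁ (j ≫ i)) := by
      rw [conjBy_eq_comp]
      exact mono_comp (j ≫ i) _
    exact hTmax T' (AGF.conjBy g₁ (j ≫ i)) φ hT' (by
      rw [comp_conjBy', ← Category.assoc, hφ, hf, conjBy_conjBy, mul_inv_cancel, conjBy_one])⟩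
  obtain ⟨b, e, he⟩ := Groth.Agent.S3901.result k B T T t₀ f hmax₀ hmax₁
  refine ⟨g * ((ptOne.hom ≫ b) ≫ i), e, s / D.χ (ptOne.hom ≫ b), ?_, ?_, ?_⟩
  · refine div_ne_zero hs fun h => D.v_ne (g * ((ptOne.hom ≫ b) ≫ i)) ?_
    rw [D.v_right, h, zero_smul]
  · show e.hom ≫ iT = _
    have h1 : (e.hom ≫ f) ≫ i = e.hom ≫ AGF.conjBy g₁⁻¹ iT := by rw [Category.assoc, hf]
    rw [he, comp_conjBy'] at h1
    have h2 : AGF.conjBy b t₀ ≫ i = AGF.conjBy (b ≫ i) iT := by
      simp only [AGF.conjBy, MonObj.mul_comp, GrpObj.inv_comp, Category.assoc, ht₀]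
    rw [h2] at h1
    have h3 := congrArg (AGF.conjBy g₁) h1
    rw [conjBy_conjBy, conjBy_conjBy, mul_inv_cancel, conjBy_one] at h3
    rw [← h3, MonObj.comp_mul, Category.assoc, ptOne.inv_hom_id_assoc]
  · have hb : D.χ (ptOne.hom ≫ b) ≠ 0 := fun h => D.v_ne (g * ((ptOne.hom ≫ b) ≫ i)) (by
      rw [D.v_right, h, zero_smul])
    rw [D.v_right, smul_smul, div_mul_cancel₀ _ hb]

/-- The weight of an eigenvector on the cone is extreme. -/
theorem Eig.mulVec_mem (hB : Red.IsBorelOver k i) (hinf : (Set.range D.χ).Infinite) (hT : AGF.IsMaxTorus iT)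
    (t₀ : T ⟶ B) (ht₀ : t₀ ≫ i = iT) {a : Fin τ.r → ℤ} (ha : wd.Eig a) {w : Fin D.n → k} (hw : w ∈ D.cone) :
    (wd.E a).mulVec w ∈ D.cone := by
  classical
  obtain ⟨hTm, hTmono, hTt, hTmax⟩ := id hT
  haveI := hTm; haveI := hTmono
  obtain ⟨hi, hic, -, -, -, -⟩ := id hB
  haveI := hi; haveI := hic
  haveI : Mono i := Over.mono_of_mono_left i
  obtain ⟨-, hTa, hTs, hTc⟩ := torus_facts hTt iT
  haveI := hTa; haveI := hTs; haveI := hTc
  haveI : IsReduced T.left := GrothLib.RedSmooth.isReduced_of_smooth T.hom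
  haveI : LocallyOfFiniteType T.hom := inferInstance
  have hnorm : ∀ {a : Fin τ.r → ℤ} {u : Fin D.n → k}, u ∈ D.cone → u ≠ 0 → (wd.E a).mulVec u = u →
      ∃ (x : pt k k ⟶ G) (e : T ≅ T) (c : k), c ≠ 0 ∧ IsNorm iT x e ∧ u = c • D.v x :=
    fun {a u} hu hu0 hua => wd.exists_norm_of_eigen hB hinf hT t₀ ht₀ hu hu0 hua
  -- a distinguished weight
  obtain ⟨l, hl⟩ := exists_sep wd.W
  obtain ⟨a₁, ha₁W, ha₁0, -, -⟩ := wd.exists_top (D.v_mem 1) (D.v_ne 1) l hl
  obtain ⟨a', ha', hmax'⟩ := (wd.W.filter fun a => ∃ u ∈ D.cone, (wd.E a).mulVec u ≠ 0).exists_max_image l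
    ⟨a₁, Finset.mem_filter.2 ⟨ha₁W, _, D.v_mem 1, ha₁0⟩⟩
  obtain ⟨ha'W, u₀, hu₀, hu₀'⟩ := Finset.mem_filter.1 ha'
  have htop : ∀ u ∈ D.cone, (wd.E a').mulVec u ∈ D.cone := fun u hu =>
    wd.lead_single hu l hl ha'W fun b hb h => hmax' b (Finset.mem_filter.2 ⟨hb, u, hu, h⟩)
  obtain ⟨u, hu, hu0, hua⟩ := ha
  obtain ⟨x, e, c, hc, hx, rfl⟩ := hnorm hu hu0 hua
  obtain ⟨x', e', c', hc', hx', hu'⟩ := hnorm (htop u₀ hu₀) hu₀' (wd.mulVec_idem a' u₀)
  have hn := hx.mul hx'.inv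
  have haW : a ∈ wd.W := Eig.mem_W wd ⟨_, hu, hu0, hua⟩
  obtain ⟨b, hb, -, hcomm⟩ := wd.exists_perm hn haW
  have hba : b = a' := by
    by_contra hne
    refine hu0 ?_
    have h1 : c • D.v x = (c / c') • (D.M (x * x'⁻¹)).mulVec ((wd.E a').mulVec u₀) := by
      rw [hu', Matrix.mulVec_smul, LineData.M_v, smul_smul, div_mul_cancel₀ _ hc', inv_mul_cancel_right]
    rw [← hua, h1, Matrix.mulVec_smul, Matrix.mulVec_mulVec, hcomm, ← Matrix.mulVec_mulVec,
      wd.mulVec_orth hne, Matrix.mulVec_zero, smul_zero]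
  have : (wd.E a).mulVec w = (D.M (x * x'⁻¹)).mulVec ((wd.E a').mulVec ((D.M (x * x'⁻¹)⁻¹).mulVec w)) := by
    conv_lhs => rw [← D.M_inv_mulVec (x * x'⁻¹) w]
    rw [Matrix.mulVec_mulVec, hcomm, hba, ← Matrix.mulVec_mulVec]
  rw [this]
  exact D.cone_M _ (htop _ (D.cone_M _ hw))

end WeightData

end GrothLib.SelfCent19
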